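import Mathlib

/-!
# Helper24 — the torsor isomorphism `A ⊗[R] B ≃ A ⊗[k] B/R⁺B` for Hopf algebras

For a bialgebra map `R → B` of commutative Hopf algebras over `k` and a commutative `B`-algebra `A`:
`A ⊗[R] B ≃ₐ[A] A ⊗[k] (B ⧸ R⁺B)`, `a ⊗ b ↦ a b₁ ⊗ b̄₂`.
-/

set_option autoImplicit false
universe u v w x

open TensorProduct Coalgebra Bialgebra WithConv

namespace Groth.Agent.Lib.Helper24.HopfFF

section conv

variable {k : Type u} [CommRing k] {R : Type v} {B : Type w} {T : Type x} [CommRing R] [CommRing B]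
  [CommRing T] [HopfAlgebra k R] [HopfAlgebra k B] [Algebra k T]

/-- precomposition with a bialgebra map, as a monoid hom of convolution groups -/
noncomputable def precomp (g : R →ₐc[k] B) :
    WithConv (B →ₐ[k] T) →* WithConv (R →ₐ[k] T) where
  toFun f := toConv (f.ofConv.comp (g : R →ₐ[k] B))
  map_one' := by
    apply WithConv.ofConv_injective
    refine AlgHom.ext fun r => ?_
    change algebraMap k T (counit (R := k) (g r)) = algebraMap k T (counit (R := k) r)
    rw [CoalgHomClass.counit_comp_apply]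
  map_mul' f₁ f₂ := by
    apply WithConv.ofConv_injective
    exact AlgHom.convMul_comp_bialgHom_distrib f₁ f₂ g

theorem precomp_apply (g : R →ₐc[k] B) (f : WithConv (B →ₐ[k] T)) (r : R) :
    (precomp g f).ofConv r = f.ofConv (g r) := rfl

/-- postcomposition with an algebra map, as a monoid hom of convolution groups -/
noncomputable def postcomp {T' : Type*} [CommRing T'] [Algebra k T'] (h : T →ₐ[k] T') :
    WithConv (B →ₐ[k] T) →* WithConv (B →ₐ[k] T') where
  toFun f := toConv (h.comp f.ofConv)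
  map_one' := by
    apply WithConv.ofConv_injective
    refine AlgHom.ext fun r => ?_
    change h (algebraMap k T (counit (R := k) r)) = algebraMap k T' (counit (R := k) r)
    rw [AlgHom.commutes]
  map_mul' f₁ f₂ := by
    apply WithConv.ofConv_injective
    exact AlgHom.comp_convMul_distrib h f₁ f₂

theorem postcomp_apply {T' : Type*} [CommRing T'] [Algebra k T'] (h : T →ₐ[k] T')
    (f : WithConv (B →ₐ[k] T)) (b : B) : (postcomp h f).ofConv b = h (f.ofConv b) := rfl

/-- the convolution inverse `f ∘ S` -/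
noncomputable def inv' (f : WithConv (B →ₐ[k] T)) : WithConv (B →ₐ[k] T) :=
  toConv (f.ofConv.comp (HopfAlgebra.antipodeAlgHom k B))

theorem id_antipode_cancel :
    toConv (AlgHom.id k B) * toConv (HopfAlgebra.antipodeAlgHom k B) = 1 := by
  apply WithConv.ofConv_injective
  apply AlgHom.toLinearMap_injective
  apply WithConv.toConv_injective
  rw [AlgHom.toLinearMap_convMul, AlgHom.toLinearMap_convOne]
  simp [LinearMap.id_mul_antipode]

theorem inv'_mul (f : WithConv (B →ₐ[k] T)) : inv' f * f = 1 := by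
  have h := congrArg (postcomp (B := B) f.ofConv) (AlgHom.antipode_id_cancel (R := k) (A := B))
  rw [map_mul, map_one] at h
  exact h

theorem mul_inv' (f : WithConv (B →ₐ[k] T)) : f * inv' f = 1 := by
  have h := congrArg (postcomp (B := B) f.ofConv) (id_antipode_cancel (k := k) (B := B))
  rw [map_mul, map_one] at h
  exact h

theorem postcomp_inv' {T' : Type*} [CommRing T'] [Algebra k T'] (h : T →ₐ[k] T')
    (f : WithConv (B →ₐ[k] T)) : postcomp h (inv' f) = inv' (postcomp h f) := rfl

end conv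


section torsor

variable (k : Type u) [CommRing k] (R : Type v) (B : Type w) (A : Type x) [CommRing R] [CommRing B]
  [CommRing A] [HopfAlgebra k R] [HopfAlgebra k B] [Algebra k A]
  [Algebra R B] [IsScalarTower k R B] [Algebra B A] [IsScalarTower k B A]
  [Algebra R A] [IsScalarTower R B A] [IsScalarTower k R A]

/-- the ideal of `B` generated by the augmentation ideal of `R` -/
def augExt : Ideal B := Ideal.map (algebraMap R B) (RingHom.ker (counitAlgHom k R))

/-- the quotient `B / R⁺B` -/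
abbrev Quo : Type w := B ⧸ augExt k R B

variable {k R B}

theorem mk_algebraMap_eq (r : R) :
    Ideal.Quotient.mk (augExt k R B) (algebraMap R B r) =
      algebraMap k (Quo k R B) (counit (R := k) r) := by
  have h : r - algebraMap k R (counit (R := k) r) ∈ RingHom.ker (counitAlgHom k R) := by
    rw [RingHom.mem_ker, map_sub]
    simp
  have h2 : algebraMap R B (r - algebraMap k R (counit (R := k) r)) ∈ augExt k R B :=
    Ideal.mem_map_of_mem _ h
  rw [map_sub, ← Ideal.Quotient.eq, ← IsScalarTower.algebraMap_apply] at h2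
  rw [h2]
  rfl

variable (k R B)

/-- first map `B → A ⊗[k] B̄` -/
noncomputable def p₁ : B →ₐ[k] A ⊗[k] Quo k R B :=
  (Algebra.TensorProduct.includeLeft : A →ₐ[k] A ⊗[k] Quo k R B).comp (IsScalarTower.toAlgHom k B A)

/-- second map `B → A ⊗[k] B̄` -/
noncomputable def p₂ : B →ₐ[k] A ⊗[k] Quo k R B :=
  (Algebra.TensorProduct.includeRight : Quo k R B →ₐ[k] A ⊗[k] Quo k R B).comp
    (Ideal.Quotient.mkₐ k (augExt k R B))

/-- the coaction `b ↦ b₁ ⊗ b̄₂` -/
noncomputable def rho₀ : B →ₐ[k] A ⊗[k] Quo k R B :=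
  (toConv (p₁ k R B A) * toConv (p₂ k R B A)).ofConv

/-- first map `B → A ⊗[R] B` -/
noncomputable def q₁ : B →ₐ[k] A ⊗[R] B :=
  (Algebra.TensorProduct.includeLeft : A →ₐ[k] A ⊗[R] B).comp (IsScalarTower.toAlgHom k B A)

/-- second map `B → A ⊗[R] B` -/
noncomputable def q₂ : B →ₐ[k] A ⊗[R] B :=
  (Algebra.TensorProduct.includeRight : B →ₐ[R] A ⊗[R] B).restrictScalars k

/-- `b ↦ S(b₁) ⊗ b₂` -/
noncomputable def psi₀ : B →ₐ[k] A ⊗[R] B :=
  (inv' (toConv (q₁ k R B A)) * toConv (q₂ k R B A)).ofConv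


variable {k R B} (g : R →ₐc[k] B) (hg : ∀ r, g r = algebraMap R B r)
include hg

theorem precomp_p₂ : precomp g (toConv (p₂ k R B A)) = 1 := by
  apply WithConv.ofConv_injective
  refine AlgHom.ext fun r => ?_
  change (1 : A) ⊗ₜ[k] Ideal.Quotient.mk (augExt k R B) (g r) = algebraMap k _ (counit (R := k) r)
  rw [hg, mk_algebraMap_eq, Algebra.TensorProduct.algebraMap_apply, Algebra.algebraMap_eq_smul_one,
    Algebra.algebraMap_eq_smul_one, TensorProduct.tmul_smul, TensorProduct.smul_tmul']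

theorem rho₀_algebraMap (r : R) :
    rho₀ k R B A (algebraMap R B r) = algebraMap R (A ⊗[k] Quo k R B) r := by
  have h : precomp g (toConv (p₁ k R B A) * toConv (p₂ k R B A)) =
      precomp g (toConv (p₁ k R B A)) := by
    rw [map_mul, precomp_p₂ A g hg]
    exact mul_one (M := WithConv (R →ₐ[k] A ⊗[k] Quo k R B)) _
  have h2 := congrArg (fun f => f.ofConv r) h
  simp only [precomp_apply] at h2
  rw [hg] at h2
  refine h2.trans ?_
  change (algebraMap B A (algebraMap R B r)) ⊗ₜ[k] (1 : Quo k R B) = _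
  rw [← IsScalarTower.algebraMap_apply, Algebra.TensorProduct.algebraMap_apply]

/-- the coaction as an `R`-algebra map -/
noncomputable def rho : B →ₐ[R] A ⊗[k] Quo k R B :=
  { (rho₀ k R B A : B →+* A ⊗[k] Quo k R B) with
    commutes' := fun r => rho₀_algebraMap A g hg r }

theorem rho_apply (b : B) : rho A g hg b = rho₀ k R B A b := rfl

/-- the torsor map `A ⊗[R] B → A ⊗[k] B̄` -/
noncomputable def thetaHom : A ⊗[R] B →ₐ[A] A ⊗[k] Quo k R B :=
  Algebra.TensorProduct.lift (Algebra.ofId A (A ⊗[k] Quo k R B)) (rho A g hg)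
    (fun _ _ => Commute.all _ _)

theorem precomp_q₁_eq : precomp g (toConv (q₁ k R B A)) = precomp g (toConv (q₂ k R B A)) := by
  apply WithConv.ofConv_injective
  refine AlgHom.ext fun r => ?_
  change (algebraMap B A (g r)) ⊗ₜ[R] (1 : B) = (1 : A) ⊗ₜ[R] (g r)
  rw [hg, ← IsScalarTower.algebraMap_apply, Algebra.algebraMap_eq_smul_one,
    Algebra.algebraMap_eq_smul_one, TensorProduct.smul_tmul]

theorem precomp_psi₀ : precomp g (toConv (psi₀ k R B A)) = 1 := by
  change precomp g (inv' (toConv (q₁ k R B A)) * toConv (q₂ k R B A)) = 1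
  rw [map_mul, ← precomp_q₁_eq A g hg, ← map_mul, inv'_mul, map_one]

theorem psi₀_mem (x : B) (hx : x ∈ augExt k R B) : psi₀ k R B A x = 0 := by
  have hle : augExt k R B ≤ RingHom.ker (psi₀ k R B A : B →+* A ⊗[R] B) := by
    unfold augExt
    rw [Ideal.map_le_iff_le_comap]
    intro r hr
    rw [Ideal.mem_comap, RingHom.mem_ker]
    have h2 := congrArg (fun f => f.ofConv r) (precomp_psi₀ A g hg)
    simp only [precomp_apply] at h2
    rw [hg] at h2
    refine h2.trans ?_
    change algebraMap k _ (counit (R := k) r) = 0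
    have : counit (R := k) r = 0 := hr
    rw [this, map_zero]
  exact hle hx

/-- `b̄ ↦ S(b₁) ⊗ b₂` -/
noncomputable def psiBar : Quo k R B →ₐ[k] A ⊗[R] B :=
  Ideal.Quotient.liftₐ (augExt k R B) (psi₀ k R B A) (fun x hx => psi₀_mem A g hg x hx)

/-- the inverse torsor map -/
noncomputable def thetaInv : A ⊗[k] Quo k R B →ₐ[A] A ⊗[R] B :=
  Algebra.TensorProduct.lift (Algebra.ofId A (A ⊗[R] B)) (psiBar A g hg)
    (fun _ _ => Commute.all _ _)


theorem thetaHom_tmul (a : A) (b : B) :
    thetaHom A g hg (a ⊗ₜ[R] b) = (a ⊗ₜ[k] (1 : Quo k R B)) * rho₀ k R B A b := by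
  unfold thetaHom
  rw [Algebra.TensorProduct.lift_tmul]
  rfl

theorem thetaInv_tmul (a : A) (b : B) :
    thetaInv A g hg (a ⊗ₜ[k] Ideal.Quotient.mk (augExt k R B) b) =
      (a ⊗ₜ[R] (1 : B)) * psi₀ k R B A b := by
  unfold thetaInv
  rw [Algebra.TensorProduct.lift_tmul]
  rfl

theorem postcomp_thetaInv_p₁ :
    postcomp ((thetaInv A g hg).restrictScalars k) (toConv (p₁ k R B A)) = toConv (q₁ k R B A) := by
  apply WithConv.ofConv_injective
  refine AlgHom.ext fun b => ?_
  change thetaInv A g hg ((algebraMap B A b) ⊗ₜ[k] Ideal.Quotient.mk (augExt k R B) (1 : B)) = _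
  rw [thetaInv_tmul, map_one, mul_one]
  rfl

theorem postcomp_thetaInv_p₂ :
    postcomp ((thetaInv A g hg).restrictScalars k) (toConv (p₂ k R B A)) =
      toConv (psi₀ k R B A) := by
  apply WithConv.ofConv_injective
  refine AlgHom.ext fun b => ?_
  change thetaInv A g hg ((1 : A) ⊗ₜ[k] Ideal.Quotient.mk (augExt k R B) b) = _
  rw [thetaInv_tmul]
  change (1 : A ⊗[R] B) * _ = _
  rw [one_mul]

theorem postcomp_thetaHom_q₁ :
    postcomp ((thetaHom A g hg).restrictScalars k) (toConv (q₁ k R B A)) = toConv (p₁ k R B A) := by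
  apply WithConv.ofConv_injective
  refine AlgHom.ext fun b => ?_
  change thetaHom A g hg ((algebraMap B A b) ⊗ₜ[R] (1 : B)) = _
  rw [thetaHom_tmul, map_one, mul_one]
  rfl

theorem postcomp_thetaHom_q₂ :
    postcomp ((thetaHom A g hg).restrictScalars k) (toConv (q₂ k R B A)) =
      toConv (rho₀ k R B A) := by
  apply WithConv.ofConv_injective
  refine AlgHom.ext fun b => ?_
  change thetaHom A g hg ((1 : A) ⊗ₜ[R] b) = _
  rw [thetaHom_tmul]
  change (1 : A ⊗[k] Quo k R B) * _ = _
  rw [one_mul]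

theorem thetaInv_rho₀ (b : B) : thetaInv A g hg (rho₀ k R B A b) = (1 : A) ⊗ₜ[R] b := by
  have h : postcomp ((thetaInv A g hg).restrictScalars k)
      (toConv (p₁ k R B A) * toConv (p₂ k R B A)) = toConv (q₂ k R B A) := by
    rw [map_mul, postcomp_thetaInv_p₁, postcomp_thetaInv_p₂]
    change toConv (q₁ k R B A) * (inv' (toConv (q₁ k R B A)) * toConv (q₂ k R B A)) = _
    refine (mul_assoc (G := WithConv (B →ₐ[k] A ⊗[R] B)) _ _ _).symm.trans ?_
    rw [mul_inv']
    exact one_mul (M := WithConv (B →ₐ[k] A ⊗[R] B)) _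
  exact congrArg (fun f => f.ofConv b) h

theorem thetaHom_psi₀ (b : B) :
    thetaHom A g hg (psi₀ k R B A b) = (1 : A) ⊗ₜ[k] Ideal.Quotient.mk (augExt k R B) b := by
  have h : postcomp ((thetaHom A g hg).restrictScalars k)
      (inv' (toConv (q₁ k R B A)) * toConv (q₂ k R B A)) = toConv (p₂ k R B A) := by
    rw [map_mul, postcomp_inv', postcomp_thetaHom_q₁, postcomp_thetaHom_q₂]
    change inv' (toConv (p₁ k R B A)) * (toConv (p₁ k R B A) * toConv (p₂ k R B A)) = _
    refine (mul_assoc (G := WithConv (B →ₐ[k] A ⊗[k] Quo k R B)) _ _ _).symm.trans ?_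
    rw [inv'_mul]
    exact one_mul (M := WithConv (B →ₐ[k] A ⊗[k] Quo k R B)) _
  exact congrArg (fun f => f.ofConv b) h

/-- **the torsor isomorphism** `A ⊗[R] B ≃ₐ[A] A ⊗[k] (B ⧸ R⁺B)` -/
noncomputable def theta : A ⊗[R] B ≃ₐ[A] A ⊗[k] Quo k R B :=
  AlgEquiv.ofAlgHom (thetaHom A g hg) (thetaInv A g hg)
    (by
      apply Algebra.TensorProduct.ext'
      intro a bq
      obtain ⟨b, rfl⟩ := Ideal.Quotient.mk_surjective bq
      rw [AlgHom.comp_apply, thetaInv_tmul, map_mul, thetaHom_psi₀, thetaHom_tmul, map_one,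
        mul_one, Algebra.TensorProduct.tmul_mul_tmul, mul_one, one_mul]
      rfl)
    (by
      apply Algebra.TensorProduct.ext'
      intro a b
      rw [AlgHom.comp_apply, thetaHom_tmul, map_mul, thetaInv_rho₀]
      have h1 : thetaInv A g hg (a ⊗ₜ[k] (1 : Quo k R B)) = a ⊗ₜ[R] (1 : B) := by
        have := thetaInv_tmul A g hg a (1 : B)
        rw [map_one, map_one, mul_one] at this
        exact this
      rw [h1, Algebra.TensorProduct.tmul_mul_tmul, mul_one, one_mul]
      rfl)

theorem theta_tmul (a : A) (b : B) :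
    theta A g hg (a ⊗ₜ[R] b) = (a ⊗ₜ[k] (1 : Quo k R B)) * rho₀ k R B A b :=
  thetaHom_tmul A g hg a b

end torsor

end Groth.Agent.Lib.Helper24.HopfFF
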