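import Mathlib
import Groth.Agent.Lib.Helper24.HopfFF.Torsor

/-!
# Helper24 — the ideal `R⁺B` is a Hopf ideal; the quotient Hopf algebra `B ⧸ R⁺B`
-/

set_option autoImplicit false
universe u v w x

open TensorProduct Coalgebra Bialgebra WithConv

namespace Groth.Agent.Lib.Helper24.HopfFF

section

variable {k : Type u} [CommRing k] {R : Type v} {B : Type w} [CommRing R] [CommRing B]
  [HopfAlgebra k R] [HopfAlgebra k B] [Algebra R B] [IsScalarTower k R B]
  (g : R →ₐc[k] B) (hg : ∀ r, g r = algebraMap R B r)

include hg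

theorem augExt_le_ker_counit : augExt k R B ≤ RingHom.ker (counitAlgHom k B) := by
  unfold augExt
  rw [Ideal.map_le_iff_le_comap]
  intro r hr
  rw [Ideal.mem_comap, RingHom.mem_ker, ← hg]
  change counit (R := k) (g r) = 0
  rw [CoalgHomClass.counit_comp_apply]
  exact hr

theorem antipode_comp (r : R) :
    HopfAlgebra.antipode k (g r) = g (HopfAlgebra.antipode k r) := by
  -- both `S_B ∘ g` and `g ∘ S_R` are convolution inverses of `g` in `Hom(R, B)`
  have h1 : precomp g (inv' (toConv (AlgHom.id k B))) * precomp g (toConv (AlgHom.id k B)) = 1 := by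
    rw [← map_mul, inv'_mul, map_one]
  have h2 : precomp g (toConv (AlgHom.id k B)) * inv' (precomp g (toConv (AlgHom.id k B))) = 1 :=
    mul_inv' _
  have h3 : precomp g (inv' (toConv (AlgHom.id k B))) =
      inv' (precomp g (toConv (AlgHom.id k B))) :=
    left_inv_eq_right_inv (M := WithConv (R →ₐ[k] B)) h1 h2
  exact congrArg (fun f => f.ofConv r) h3


theorem mkₐ_comp_g :
    (Ideal.Quotient.mkₐ k (augExt k R B)).comp (g : R →ₐ[k] B) =
      (Algebra.ofId k (Quo k R B)).comp (counitAlgHom k R) := by
  refine AlgHom.ext fun r => ?_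
  change Ideal.Quotient.mk (augExt k R B) (g r) = algebraMap k (Quo k R B) (counit (R := k) r)
  rw [hg, mk_algebraMap_eq]

theorem comul_mem_ker (x : B) (hx : x ∈ augExt k R B) :
    ((Algebra.TensorProduct.map (Ideal.Quotient.mkₐ k (augExt k R B))
      (Ideal.Quotient.mkₐ k (augExt k R B))).comp (comulAlgHom k B)) x = 0 := by
  set Φ : B →ₐ[k] Quo k R B ⊗[k] Quo k R B :=
    (Algebra.TensorProduct.map (Ideal.Quotient.mkₐ k (augExt k R B))
      (Ideal.Quotient.mkₐ k (augExt k R B))).comp (comulAlgHom k B) with hΦ
  have hle : augExt k R B ≤ RingHom.ker (Φ : B →+* Quo k R B ⊗[k] Quo k R B) := by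
    refine (Ideal.map_le_iff_le_comap (f := algebraMap R B)
      (I := RingHom.ker (counitAlgHom k R))).2 ?_
    intro r hr
    rw [Ideal.mem_comap, RingHom.mem_ker, ← hg]
    have h1 : Φ.comp (g : R →ₐ[k] B) =
        (Algebra.TensorProduct.map ((Algebra.ofId k (Quo k R B)).comp (counitAlgHom k R))
          ((Algebra.ofId k (Quo k R B)).comp (counitAlgHom k R))).comp (comulAlgHom k R) := by
      rw [hΦ, AlgHom.comp_assoc, ← BialgHom.map_comp_comulAlgHom, ← AlgHom.comp_assoc,
        ← Algebra.TensorProduct.map_comp, mkₐ_comp_g g hg]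
    have h2 := congrArg (fun φ => φ r) h1
    simp only [AlgHom.comp_apply] at h2
    refine h2.trans ?_
    have hr' : counit (R := k) r = 0 := hr
    -- `(ε ⊗ ε) (Δ r) = 1 ⊗ ε r`
    have h3 : Algebra.TensorProduct.map (counitAlgHom k R) (counitAlgHom k R)
        (comul (R := k) r) = (1 : k) ⊗ₜ[k] counit (R := k) r := by
      have e1 : Algebra.TensorProduct.map (counitAlgHom k R) (counitAlgHom k R) =
          (Algebra.TensorProduct.map (AlgHom.id k k) (counitAlgHom k R)).comp
            (Algebra.TensorProduct.map (counitAlgHom k R) (AlgHom.id k R)) := by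
        rw [← Algebra.TensorProduct.map_comp, AlgHom.id_comp, AlgHom.comp_id]
      rw [e1, AlgHom.comp_apply]
      have e2 : (Algebra.TensorProduct.map (counitAlgHom k R) (AlgHom.id k R))
          (comul (R := k) r) = (counit (R := k) (A := R)).rTensor R (comul (R := k) r) := rfl
      rw [e2, Coalgebra.rTensor_counit_comul]
      rfl
    have e4 : Algebra.TensorProduct.map ((Algebra.ofId k (Quo k R B)).comp (counitAlgHom k R))
          ((Algebra.ofId k (Quo k R B)).comp (counitAlgHom k R)) =
        (Algebra.TensorProduct.map (Algebra.ofId k (Quo k R B)) (Algebra.ofId k (Quo k R B))).comp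
          (Algebra.TensorProduct.map (counitAlgHom k R) (counitAlgHom k R)) := by
      rw [← Algebra.TensorProduct.map_comp]
    change (Algebra.TensorProduct.map ((Algebra.ofId k (Quo k R B)).comp (counitAlgHom k R))
          ((Algebra.ofId k (Quo k R B)).comp (counitAlgHom k R))) (comul (R := k) r) = 0
    rw [e4, AlgHom.comp_apply, h3, hr', TensorProduct.tmul_zero, map_zero]
  exact hle hx

/-- `R⁺B` is a Hopf ideal of `B` -/
theorem isHopfIdeal_augExt : (augExt k R B).IsHopfIdeal k where
  counit_eq_zero := fun x hx => augExt_le_ker_counit g hg hx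
  map_mkQ_comul_eq_zero := fun x hx => comul_mem_ker g hg x hx
  antipode_mem := by
    have hle : augExt k R B ≤
        Ideal.comap (HopfAlgebra.antipodeAlgHom k B : B →+* B) (augExt k R B) := by
      refine (Ideal.map_le_iff_le_comap (f := algebraMap R B)
        (I := RingHom.ker (counitAlgHom k R))).2 ?_
      intro r hr
      rw [Ideal.mem_comap, Ideal.mem_comap, ← hg]
      change HopfAlgebra.antipode k (g r) ∈ _
      rw [antipode_comp g hg, hg]
      apply Ideal.mem_map_of_mem
      rw [RingHom.mem_ker]
      change counit (R := k) (HopfAlgebra.antipode k r) = 0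
      rw [HopfAlgebra.counit_antipode]
      exact hr
    intro x hx
    exact hle hx

end

end Groth.Agent.Lib.Helper24.HopfFF
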