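import Mathlib
import Groth.Agent.Lib.Helper24.NFT.HomSurj

/-!
# Helper24 — an injective bialgebra map from a reduced Hopf algebra is faithfully flat
-/

set_option autoImplicit false
universe u

open AlgebraicGeometry CategoryTheory Limits MonoidalCategory CartesianMonoidalCategory MonObj GrpObj
open Opposite

namespace Groth.Agent.Lib.Helper24.HopfFF

variable {k : Type u} [Field k] {A B : Type u} [CommRing A] [CommRing B]
  [HopfAlgebra k A] [HopfAlgebra k B]

/-- `Spec` of a bialgebra map, as a morphism of group schemes -/
noncomputable def specHom (f : B →ₐc[k] A) :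
    (Spec (.of A)).asOver (Spec (.of k)) ⟶ (Spec (.of B)).asOver (Spec (.of k)) :=
  ((hopfSpec (.of k)).map (CommHopfAlgCat.ofHom f).op).hom.hom

instance (f : B →ₐc[k] A) : IsMonHom (specHom f) :=
  ((hopfSpec (.of k)).map (CommHopfAlgCat.ofHom f).op).hom.isMonHom_hom

theorem specHom_left (f : B →ₐc[k] A) :
    (specHom f).left = Spec.map (CommRingCat.ofHom (f : B →+* A)) := rfl


theorem denseRange_specHom (f : B →ₐc[k] A) (hf : Function.Injective f) :
    DenseRange (specHom f).left.base := by
  rw [specHom_left]
  change DenseRange (PrimeSpectrum.comap (f : B →+* A))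
  rw [PrimeSpectrum.denseRange_comap_iff_ker_le_nilRadical]
  have : RingHom.ker (f : B →+* A) = ⊥ := (RingHom.injective_iff_ker_eq_bot _).1 hf
  rw [this]
  exact bot_le

/-- an injective bialgebra map of commutative Hopf algebras over a field is surjective on
spectra -/
theorem comap_surjective_of_injective (f : B →ₐc[k] A) (hf : Function.Injective f) :
    Function.Surjective (PrimeSpectrum.comap (f : B →+* A)) := by
  have hqc : QuasiCompact (Spec.map (CommRingCat.ofHom (f : B →+* A))) := inferInstance
  haveI : QuasiCompact (specHom f).left := hqc
  have hsurj : Surjective (specHom f).left :=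
    Groth.Agent.Lib.Helper24.NFT.surjective_of_dominant (specHom f) (denseRange_specHom f hf)
  rw [specHom_left] at hsurj
  exact hsurj.surj

/-- **Reduced case**: an injective bialgebra map out of a reduced commutative Hopf algebra over a
field is faithfully flat. -/
theorem faithfullyFlat_of_isReduced (f : B →ₐc[k] A) (hf : Function.Injective f)
    [_root_.IsReduced B] : (f : B →+* A).FaithfullyFlat := by
  have hqc : QuasiCompact (Spec.map (CommRingCat.ofHom (f : B →+* A))) := inferInstance
  haveI : QuasiCompact (specHom f).left := hqc
  haveI : IsReduced ((Spec (.of B)).asOver (Spec (.of k))).left :=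
    inferInstanceAs (IsReduced (Spec (CommRingCat.of B)))
  have hflat : Flat (specHom f).left :=
    Groth.Agent.Lib.Helper24.NFT.flat_of_dominant_of_isReduced (specHom f)
      (denseRange_specHom f hf)
  rw [RingHom.FaithfullyFlat.iff_flat_and_comap_surjective]
  refine ⟨?_, comap_surjective_of_injective f hf⟩
  rw [specHom_left] at hflat
  exact (HasRingHomProperty.Spec_iff (P := @Flat)).1 hflat

end Groth.Agent.Lib.Helper24.HopfFF
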