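import Mathlib
import Groth.Prelude.Def_SGA3

/-!
# Helper24 — the Hopf algebra structure on a sub-Hopf-algebra (over a field)
-/

set_option autoImplicit false
universe u v

open TensorProduct Coalgebra Bialgebra

namespace Groth.Agent.Lib.Helper24.HopfFF

variable {k : Type u} [Field k] {A : Type v} [CommRing A] [HopfAlgebra k A]

section incl

variable (B : Subalgebra k A)

/-- `B ⊗ B → A ⊗ A` -/
noncomputable def incl₂ : ↥B ⊗[k] ↥B →ₐ[k] A ⊗[k] A := Algebra.TensorProduct.map B.val B.val

theorem incl₂_injective : Function.Injective (incl₂ B) :=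
  TensorProduct.map_injective_of_flat_flat (R := k) B.val.toLinearMap B.val.toLinearMap
    Subtype.val_injective Subtype.val_injective

/-- `B ⊗ (B ⊗ B) → A ⊗ (A ⊗ A)` -/
noncomputable def incl₃ : ↥B ⊗[k] (↥B ⊗[k] ↥B) →ₐ[k] A ⊗[k] (A ⊗[k] A) :=
  Algebra.TensorProduct.map B.val (incl₂ B)

theorem incl₃_injective : Function.Injective (incl₃ B) :=
  TensorProduct.map_injective_of_flat_flat (R := k) B.val.toLinearMap (incl₂ B).toLinearMap
    Subtype.val_injective (incl₂_injective B)

end incl

/-- the predicate "sub-Hopf-algebra", in a form convenient for us -/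
structure IsSub (B : Subalgebra k A) : Prop where
  comul_mem : ∀ b ∈ B, comul (R := k) (A := A) b ∈ (incl₂ B).range
  antipode_mem : ∀ b ∈ B, HopfAlgebra.antipode k b ∈ B

theorem isSub_iff {A : Type u} [CommRing A] [HopfAlgebra k A] (B : Subalgebra k A) :
    IsSub B ↔ SGA3.IsHopfSubalgebra k A B := by
  constructor
  · rintro ⟨h1, h2⟩
    refine ⟨fun b hb => ?_, h2⟩
    obtain ⟨z, hz⟩ := h1 b hb
    exact ⟨z, hz⟩
  · rintro ⟨h1, h2⟩
    refine ⟨fun b hb => ?_, h2⟩
    obtain ⟨z, hz⟩ := h1 b hb
    exact ⟨z, hz⟩


section structure_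

variable {B : Subalgebra k A} (hB : IsSub B)

/-- the comultiplication of a sub-Hopf-algebra -/
noncomputable def comulB : ↥B →ₐ[k] ↥B ⊗[k] ↥B :=
  ((AlgEquiv.ofInjective (incl₂ B) (incl₂_injective B)).symm : _ →ₐ[k] _).comp
    (((comulAlgHom k A).comp B.val).codRestrict (incl₂ B).range
      (fun b => hB.comul_mem b b.2))

theorem incl₂_comulB (b : ↥B) : incl₂ B (comulB hB b) = comul (R := k) (A := A) b := by
  unfold comulB
  have h := (AlgEquiv.ofInjective (incl₂ B) (incl₂_injective B)).apply_symm_apply
    ((((comulAlgHom k A).comp B.val).codRestrict (incl₂ B).range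
      (fun b => hB.comul_mem b b.2)) b)
  have h2 := congrArg Subtype.val h
  exact h2

theorem incl₂_comp_comulB :
    (incl₂ B).comp (comulB hB) = (comulAlgHom k A).comp B.val :=
  AlgHom.ext fun b => incl₂_comulB hB b

/-- the counit of a sub-Hopf-algebra -/
noncomputable def counitB : ↥B →ₐ[k] k := (counitAlgHom k A).comp B.val

/-- the antipode of a sub-Hopf-algebra -/
noncomputable def antipodeB : ↥B →ₐ[k] ↥B :=
  ((HopfAlgebra.antipodeAlgHom k A).comp B.val).codRestrict B
    (fun b => hB.antipode_mem b b.2)

theorem val_antipodeB (b : ↥B) : (antipodeB hB b : A) = HopfAlgebra.antipode k (b : A) := rfl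


theorem incl₃_assoc :
    (incl₃ B).comp (Algebra.TensorProduct.assoc k k k ↥B ↥B ↥B).toAlgHom =
      (Algebra.TensorProduct.assoc k k k A A A).toAlgHom.comp
        (Algebra.TensorProduct.map (incl₂ B) B.val) := by
  ext <;> rfl

theorem incl₂_map_comulB_id :
    (Algebra.TensorProduct.map (incl₂ B) B.val).comp
      (Algebra.TensorProduct.map (comulB hB) (.id k ↥B)) =
    (Algebra.TensorProduct.map (comulAlgHom k A) (.id k A)).comp (incl₂ B) := by
  unfold incl₂
  rw [← Algebra.TensorProduct.map_comp, ← Algebra.TensorProduct.map_comp]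
  change Algebra.TensorProduct.map ((incl₂ B).comp (comulB hB)) _ = _
  rw [incl₂_comp_comulB, AlgHom.comp_id, AlgHom.id_comp]

theorem incl₃_map_id_comulB :
    (incl₃ B).comp (Algebra.TensorProduct.map (.id k ↥B) (comulB hB)) =
    (Algebra.TensorProduct.map (.id k A) (comulAlgHom k A)).comp (incl₂ B) := by
  unfold incl₃
  rw [← Algebra.TensorProduct.map_comp, incl₂_comp_comulB]
  unfold incl₂
  rw [← Algebra.TensorProduct.map_comp, AlgHom.comp_id, AlgHom.id_comp]

theorem coassocB :
    (Algebra.TensorProduct.assoc k k k ↥B ↥B ↥B).toAlgHom.comp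
      ((Algebra.TensorProduct.map (comulB hB) (.id k ↥B)).comp (comulB hB)) =
    (Algebra.TensorProduct.map (.id k ↥B) (comulB hB)).comp (comulB hB) := by
  have hinj : Function.Injective (incl₃ B) := incl₃_injective B
  refine AlgHom.ext fun b => hinj ?_
  have h1 : (incl₃ B).comp ((Algebra.TensorProduct.assoc k k k ↥B ↥B ↥B).toAlgHom.comp
      ((Algebra.TensorProduct.map (comulB hB) (.id k ↥B)).comp (comulB hB))) =
      (Algebra.TensorProduct.assoc k k k A A A).toAlgHom.comp
        ((Algebra.TensorProduct.map (comulAlgHom k A) (.id k A)).comp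
          ((comulAlgHom k A).comp B.val)) := by
    rw [← AlgHom.comp_assoc, incl₃_assoc, AlgHom.comp_assoc, ← AlgHom.comp_assoc _ _ (comulB hB),
      incl₂_map_comulB_id, AlgHom.comp_assoc, incl₂_comp_comulB]
  have h2 : (incl₃ B).comp ((Algebra.TensorProduct.map (.id k ↥B) (comulB hB)).comp (comulB hB)) =
      (Algebra.TensorProduct.map (.id k A) (comulAlgHom k A)).comp
          ((comulAlgHom k A).comp B.val) := by
    rw [← AlgHom.comp_assoc, incl₃_map_id_comulB, AlgHom.comp_assoc, incl₂_comp_comulB]
  have h3 := congrArg (fun φ => φ b) h1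
  have h4 := congrArg (fun φ => φ b) h2
  simp only [AlgHom.comp_apply] at h3 h4
  simp only [AlgHom.comp_apply]
  rw [h3, h4]
  exact Coalgebra.coassoc_apply (R := k) (b : A)


theorem val_lid_map :
    B.val.comp ((Algebra.TensorProduct.lid k ↥B).toAlgHom.comp
      (Algebra.TensorProduct.map (counitB (B := B)) (.id k ↥B))) =
    ((Algebra.TensorProduct.lid k A).toAlgHom.comp
      (Algebra.TensorProduct.map (counitAlgHom k A) (.id k A))).comp (incl₂ B) := by
  ext x
  · simp [incl₂, counitB]
  · simp [incl₂, counitB]

theorem val_rid_map :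
    B.val.comp ((Algebra.TensorProduct.rid k k ↥B).toAlgHom.comp
      (Algebra.TensorProduct.map (.id k ↥B) (counitB (B := B)))) =
    ((Algebra.TensorProduct.rid k k A).toAlgHom.comp
      (Algebra.TensorProduct.map (.id k A) (counitAlgHom k A))).comp (incl₂ B) := by
  ext x
  · simp [incl₂, counitB]
  · simp [incl₂, counitB]

theorem rTensorB :
    (Algebra.TensorProduct.map (counitB (B := B)) (.id k ↥B)).comp (comulB hB) =
      (Algebra.TensorProduct.lid k ↥B).symm := by
  refine AlgHom.ext fun b => ?_
  apply (Algebra.TensorProduct.lid k ↥B).injective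
  rw [AlgEquiv.coe_algHom, AlgEquiv.apply_symm_apply]
  apply Subtype.val_injective
  have h := congrArg (fun φ => φ (comulB hB b)) (val_lid_map (B := B))
  simp only [AlgHom.comp_apply] at h
  refine h.trans ?_
  rw [incl₂_comulB]
  have e : (Algebra.TensorProduct.map (counitAlgHom k A) (AlgHom.id k A)) (comul (R := k) (b : A)) =
      (counit (R := k) (A := A)).rTensor A (comul (R := k) (b : A)) := rfl
  rw [e, Coalgebra.rTensor_counit_comul]
  simp

theorem lTensorB :
    (Algebra.TensorProduct.map (.id k ↥B) (counitB (B := B))).comp (comulB hB) =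
      (Algebra.TensorProduct.rid k k ↥B).symm := by
  refine AlgHom.ext fun b => ?_
  apply (Algebra.TensorProduct.rid k k ↥B).injective
  rw [AlgEquiv.coe_algHom, AlgEquiv.apply_symm_apply]
  apply Subtype.val_injective
  have h := congrArg (fun φ => φ (comulB hB b)) (val_rid_map (B := B))
  simp only [AlgHom.comp_apply] at h
  refine h.trans ?_
  rw [incl₂_comulB]
  have e : (Algebra.TensorProduct.map (AlgHom.id k A) (counitAlgHom k A)) (comul (R := k) (b : A)) =
      (counit (R := k) (A := A)).lTensor A (comul (R := k) (b : A)) := rfl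
  rw [e, Coalgebra.lTensor_counit_comul]
  simp


/-- the bialgebra structure on a sub-Hopf-algebra -/
@[reducible] noncomputable def bialgB : Bialgebra k ↥B :=
  Bialgebra.ofAlgHom (comulB hB) (counitB (B := B)) (coassocB hB) (rTensorB hB) (lTensorB hB)

theorem val_lift_antipode_id :
    B.val.comp (Algebra.TensorProduct.lift (antipodeB hB) (.id k ↥B) fun _ _ => Commute.all _ _) =
    (Algebra.TensorProduct.lift (HopfAlgebra.antipodeAlgHom k A) (.id k A)
      fun _ _ => Commute.all _ _).comp (incl₂ B) := by
  ext x
  · simp [incl₂, val_antipodeB]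
  · simp [incl₂]

theorem val_lift_id_antipode :
    B.val.comp (Algebra.TensorProduct.lift (.id k ↥B) (antipodeB hB) fun _ _ => Commute.all _ _) =
    (Algebra.TensorProduct.lift (.id k A) (HopfAlgebra.antipodeAlgHom k A)
      fun _ _ => Commute.all _ _).comp (incl₂ B) := by
  ext x
  · simp [incl₂]
  · simp [incl₂, val_antipodeB]

theorem lift_antipode_id_comul (a : A) :
    (Algebra.TensorProduct.lift (HopfAlgebra.antipodeAlgHom k A) (.id k A)
      fun _ _ => Commute.all _ _) (comul (R := k) a) = algebraMap k A (counit (R := k) a) := by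
  rw [← HopfAlgebra.mul_antipode_rTensor_comul_apply (R := k) a]
  generalize comul (R := k) a = z
  induction z using TensorProduct.induction_on with
  | zero => simp
  | tmul x y => simp
  | add x y hx hy => rw [map_add, map_add, map_add, hx, hy]

theorem lift_id_antipode_comul (a : A) :
    (Algebra.TensorProduct.lift (.id k A) (HopfAlgebra.antipodeAlgHom k A)
      fun _ _ => Commute.all _ _) (comul (R := k) a) = algebraMap k A (counit (R := k) a) := by
  rw [← HopfAlgebra.mul_antipode_lTensor_comul_apply (R := k) a]
  generalize comul (R := k) a = z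
  induction z using TensorProduct.induction_on with
  | zero => simp
  | tmul x y => simp
  | add x y hx hy => rw [map_add, map_add, map_add, hx, hy]

/-- the Hopf algebra structure on a sub-Hopf-algebra -/
@[reducible] noncomputable def hopfB : HopfAlgebra k ↥B :=
  letI := bialgB hB
  HopfAlgebra.ofAlgHom (antipodeB hB)
    (by
      refine AlgHom.ext fun b => Subtype.val_injective ?_
      have h := congrArg (fun φ => φ (comulB hB b)) (val_lift_antipode_id hB)
      simp only [AlgHom.comp_apply] at h
      change B.val ((Algebra.TensorProduct.lift (antipodeB hB) (.id k ↥B)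
        fun _ _ => Commute.all _ _) (comulB hB b)) = _
      rw [h, incl₂_comulB, lift_antipode_id_comul]
      rfl)
    (by
      refine AlgHom.ext fun b => Subtype.val_injective ?_
      have h := congrArg (fun φ => φ (comulB hB b)) (val_lift_id_antipode hB)
      simp only [AlgHom.comp_apply] at h
      change B.val ((Algebra.TensorProduct.lift (.id k ↥B) (antipodeB hB)
        fun _ _ => Commute.all _ _) (comulB hB b)) = _
      rw [h, incl₂_comulB, lift_id_antipode_comul]
      rfl)

/-- the inclusion of a sub-Hopf-algebra as a bialgebra map -/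
noncomputable def inclB : letI := hopfB hB; ↥B →ₐc[k] A :=
  letI := hopfB hB
  BialgHom.ofAlgHom B.val (by ext b; rfl)
    (by
      refine AlgHom.ext fun b => ?_
      change incl₂ B (comulB hB b) = comul (R := k) (b : A)
      exact incl₂_comulB hB b)

theorem inclB_apply (b : ↥B) : letI := hopfB hB; inclB hB b = (b : A) := rfl

end structure_

end Groth.Agent.Lib.Helper24.HopfFF
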