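import Mathlib

/-!
# Helper24 — nilpotent Nakayama and lifting bijectivity along a nilpotent ideal
-/

set_option autoImplicit false
universe u v w

namespace Groth.Agent.Lib.Helper24.HopfFF

section

variable {S : Type u} [CommRing S] {P : Type v} [AddCommGroup P] [Module S P]

/-- nilpotent Nakayama: `N + 𝔞 P = P` with `𝔞` nilpotent forces `N = P` -/
theorem eq_top_of_sup_smul_top {𝔞 : Ideal S} (h𝔞 : IsNilpotent 𝔞) (N : Submodule S P)
    (h : N ⊔ 𝔞 • (⊤ : Submodule S P) = ⊤) : N = ⊤ := by
  obtain ⟨n, hn⟩ := h𝔞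
  have key : ∀ m : ℕ, (⊤ : Submodule S P) ≤ N ⊔ (𝔞 ^ m) • (⊤ : Submodule S P) := by
    intro m
    induction m with
    | zero => simp
    | succ m ih =>
      calc (⊤ : Submodule S P) = N ⊔ 𝔞 • (⊤ : Submodule S P) := h.symm
        _ ≤ N ⊔ 𝔞 • (N ⊔ (𝔞 ^ m) • (⊤ : Submodule S P)) :=
            sup_le_sup_left (Submodule.smul_mono le_rfl ih) _
        _ = N ⊔ (𝔞 • N ⊔ 𝔞 • ((𝔞 ^ m) • (⊤ : Submodule S P))) := by rw [Submodule.smul_sup]
        _ ≤ N ⊔ (𝔞 ^ (m + 1)) • (⊤ : Submodule S P) := by
            rw [← Submodule.mul_smul, ← pow_succ']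
            refine sup_le le_sup_left (sup_le ?_ le_sup_right)
            exact le_trans Submodule.smul_le_right le_sup_left
  have := key n
  rw [hn, Ideal.zero_eq_bot, Submodule.bot_smul, sup_bot_eq] at this
  exact top_le_iff.1 this

/-- lifting bijectivity along a nilpotent ideal: a linear endomorphism of a projective module which
is bijective modulo a nilpotent ideal is bijective -/
theorem bijective_of_bijective_mod {𝔞 : Ideal S} (h𝔞 : IsNilpotent 𝔞) [Module.Projective S P]
    (T : P →ₗ[S] P) {Pbar : Type w} [AddCommGroup Pbar] (q : P →+ Pbar)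
    (hq : Function.Surjective q) (hker : ∀ y, q y = 0 ↔ y ∈ 𝔞 • (⊤ : Submodule S P))
    (σ : Pbar → Pbar) (hσ : Function.Bijective σ) (hT : ∀ y, q (T y) = σ (q y)) :
    Function.Bijective T := by
  -- a general principle: an `S`-linear map `U` lifting a surjection of `Pbar` is surjective
  have surj_of : ∀ (U : P →ₗ[S] P) (τ : Pbar → Pbar), Function.Surjective τ →
      (∀ y, q (U y) = τ (q y)) → Function.Surjective U := by
    intro U τ hτ hU
    rw [← LinearMap.range_eq_top]
    apply eq_top_of_sup_smul_top h𝔞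
    rw [eq_top_iff]
    intro y _
    obtain ⟨z, hz⟩ := hτ (q y)
    obtain ⟨y', rfl⟩ := hq z
    have h0 : q (y - U y') = 0 := by rw [map_sub, hU, hz, sub_self]
    have h1 : y - U y' ∈ 𝔞 • (⊤ : Submodule S P) := (hker _).1 h0
    have h2 : y = U y' + (y - U y') := by abel
    rw [h2]
    exact Submodule.add_mem_sup (LinearMap.mem_range_self U y') h1
  have hTs : Function.Surjective T := surj_of T σ hσ.surjective hT
  obtain ⟨s, hs⟩ := Module.projective_lifting_property T LinearMap.id hTs
  have hs' : ∀ y, T (s y) = y := fun y => LinearMap.congr_fun hs y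
  obtain ⟨τ, hτ1, hτ2⟩ := Function.bijective_iff_has_inverse.1 hσ
  have hsq : ∀ y, q (s y) = τ (q y) := by
    intro y
    have : σ (q (s y)) = q y := by rw [← hT, hs']
    rw [← this, hτ1]
  have hss : Function.Surjective s :=
    surj_of s τ (Function.RightInverse.surjective hτ1) hsq
  refine ⟨?_, hTs⟩
  rw [← LinearMap.ker_eq_bot, LinearMap.ker_eq_bot']
  intro x hx
  obtain ⟨y, rfl⟩ := hss x
  rw [hs'] at hx
  rw [hx, map_zero]

end

end Groth.Agent.Lib.Helper24.HopfFF
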