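import Mathlib
import Groth.Agent.Lib.Helper24.HopfFF.Torsor

/-!
# Helper24 — the shear map `x ⊗ y ↦ (x ⊗ 1) Δ(y)` of a commutative Hopf algebra is bijective
-/

set_option autoImplicit false
universe u v

open TensorProduct Coalgebra Bialgebra WithConv

namespace Groth.Agent.Lib.Helper24.HopfFF

variable (k : Type u) [CommRing k] (H : Type v) [CommRing H] [HopfAlgebra k H]

/-- left inclusion -/
noncomputable def i₁ : H →ₐ[k] H ⊗[k] H := Algebra.TensorProduct.includeLeft

/-- right inclusion -/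
noncomputable def i₂ : H →ₐ[k] H ⊗[k] H := Algebra.TensorProduct.includeRight

theorem i₁_mul_i₂ : toConv (i₁ k H) * toConv (i₂ k H) = toConv (comulAlgHom k H) := by
  apply WithConv.ofConv_injective
  refine AlgHom.ext fun h => ?_
  change (toConv (i₁ k H) * toConv (i₂ k H)) h = comul (R := k) h
  rw [AlgHom.convMul_apply]
  have : Algebra.TensorProduct.lift (toConv (i₁ k H)).ofConv (toConv (i₂ k H)).ofConv
      (fun _ _ => Commute.all _ _) = AlgHom.id k (H ⊗[k] H) := by
    apply Algebra.TensorProduct.ext'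
    intro a b
    simp [i₁, i₂]
  rw [this]
  rfl

/-- the shear map -/
noncomputable def shHom : H ⊗[k] H →ₐ[H] H ⊗[k] H :=
  Algebra.TensorProduct.lift (Algebra.ofId H (H ⊗[k] H)) (comulAlgHom k H)
    (fun _ _ => Commute.all _ _)

/-- `y ↦ S(y₁) ⊗ y₂` -/
noncomputable def shPsi : H →ₐ[k] H ⊗[k] H := (inv' (toConv (i₁ k H)) * toConv (i₂ k H)).ofConv

/-- the inverse shear map -/
noncomputable def shInv : H ⊗[k] H →ₐ[H] H ⊗[k] H :=
  Algebra.TensorProduct.lift (Algebra.ofId H (H ⊗[k] H)) (shPsi k H)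
    (fun _ _ => Commute.all _ _)

theorem shHom_tmul (x y : H) : shHom k H (x ⊗ₜ[k] y) = (x ⊗ₜ[k] (1 : H)) * comul (R := k) y := by
  unfold shHom
  rw [Algebra.TensorProduct.lift_tmul]
  rfl

theorem shInv_tmul (x y : H) : shInv k H (x ⊗ₜ[k] y) = (x ⊗ₜ[k] (1 : H)) * shPsi k H y := by
  unfold shInv
  rw [Algebra.TensorProduct.lift_tmul]
  rfl

theorem postcomp_shHom_i₁ :
    postcomp ((shHom k H).restrictScalars k) (toConv (i₁ k H)) = toConv (i₁ k H) := by
  apply WithConv.ofConv_injective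
  refine AlgHom.ext fun b => ?_
  change shHom k H (b ⊗ₜ[k] (1 : H)) = _
  rw [shHom_tmul, Bialgebra.comul_one, mul_one]
  rfl

theorem postcomp_shHom_i₂ :
    postcomp ((shHom k H).restrictScalars k) (toConv (i₂ k H)) = toConv (comulAlgHom k H) := by
  apply WithConv.ofConv_injective
  refine AlgHom.ext fun b => ?_
  change shHom k H ((1 : H) ⊗ₜ[k] b) = _
  rw [shHom_tmul]
  change (1 : H ⊗[k] H) * _ = _
  rw [one_mul]
  rfl

theorem postcomp_shInv_i₁ :
    postcomp ((shInv k H).restrictScalars k) (toConv (i₁ k H)) = toConv (i₁ k H) := by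
  apply WithConv.ofConv_injective
  refine AlgHom.ext fun b => ?_
  change shInv k H (b ⊗ₜ[k] (1 : H)) = _
  rw [shInv_tmul, map_one, mul_one]
  rfl

theorem postcomp_shInv_i₂ :
    postcomp ((shInv k H).restrictScalars k) (toConv (i₂ k H)) = toConv (shPsi k H) := by
  apply WithConv.ofConv_injective
  refine AlgHom.ext fun b => ?_
  change shInv k H ((1 : H) ⊗ₜ[k] b) = _
  rw [shInv_tmul]
  change (1 : H ⊗[k] H) * _ = _
  rw [one_mul]

theorem shInv_comul (y : H) : shInv k H (comul (R := k) y) = (1 : H) ⊗ₜ[k] y := by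
  have h : postcomp ((shInv k H).restrictScalars k) (toConv (comulAlgHom k H)) =
      toConv (i₂ k H) := by
    rw [← i₁_mul_i₂, map_mul, postcomp_shInv_i₁, postcomp_shInv_i₂]
    change toConv (i₁ k H) * (inv' (toConv (i₁ k H)) * toConv (i₂ k H)) = _
    refine (mul_assoc (G := WithConv (H →ₐ[k] H ⊗[k] H)) _ _ _).symm.trans ?_
    rw [mul_inv']
    exact one_mul (M := WithConv (H →ₐ[k] H ⊗[k] H)) _
  exact congrArg (fun f => f.ofConv y) h

theorem shHom_shPsi (y : H) : shHom k H (shPsi k H y) = (1 : H) ⊗ₜ[k] y := by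
  have h : postcomp ((shHom k H).restrictScalars k)
      (inv' (toConv (i₁ k H)) * toConv (i₂ k H)) = toConv (i₂ k H) := by
    rw [map_mul, postcomp_inv', postcomp_shHom_i₁, postcomp_shHom_i₂, ← i₁_mul_i₂]
    refine (mul_assoc (G := WithConv (H →ₐ[k] H ⊗[k] H)) _ _ _).symm.trans ?_
    rw [inv'_mul]
    exact one_mul (M := WithConv (H →ₐ[k] H ⊗[k] H)) _
  exact congrArg (fun f => f.ofConv y) h

/-- **the shear isomorphism** -/
noncomputable def shear : H ⊗[k] H ≃ₐ[H] H ⊗[k] H :=
  AlgEquiv.ofAlgHom (shHom k H) (shInv k H)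
    (by
      apply Algebra.TensorProduct.ext'
      intro a b
      rw [AlgHom.comp_apply, shInv_tmul, map_mul, shHom_shPsi, shHom_tmul, Bialgebra.comul_one,
        mul_one, Algebra.TensorProduct.tmul_mul_tmul, mul_one, one_mul]
      rfl)
    (by
      apply Algebra.TensorProduct.ext'
      intro a b
      rw [AlgHom.comp_apply, shHom_tmul, map_mul, shInv_comul]
      have h1 : shInv k H (a ⊗ₜ[k] (1 : H)) = a ⊗ₜ[k] (1 : H) := by
        have := shInv_tmul k H a (1 : H)
        rw [map_one, mul_one] at this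
        exact this
      rw [h1, Algebra.TensorProduct.tmul_mul_tmul, mul_one, one_mul]
      rfl)

theorem shear_tmul (x y : H) : shear k H (x ⊗ₜ[k] y) = (x ⊗ₜ[k] (1 : H)) * comul (R := k) y :=
  shHom_tmul k H x y

end Groth.Agent.Lib.Helper24.HopfFF
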