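import Mathlib
import Groth.Agent.Lib.Helper24.HopfFF.Torsor
import Groth.Agent.Lib.Helper24.HopfFF.AugIdeal
import Groth.Agent.Lib.Helper24.HopfFF.Shear
import Groth.Agent.Lib.Helper24.HopfFF.NilpLemmas

/-!
# Helper24 — a Hopf algebra is free over a Hopf subalgebra with nilpotent augmentation ideal
-/

set_option autoImplicit false
universe u v w

open TensorProduct Coalgebra Bialgebra WithConv

namespace Groth.Agent.Lib.Helper24.HopfFF

variable {k : Type u} [Field k] {R : Type v} {M : Type w} [CommRing R] [CommRing M]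
  [HopfAlgebra k R] [HopfAlgebra k M] [Algebra R M] [IsScalarTower k R M]

section

variable [(augExt k R M).IsHopfIdeal k]

/-- `(mk ⊗ id) ∘ ρ = Δ_Q ∘ mk` -/
theorem map_mk_rho₀ (x : M) :
    Algebra.TensorProduct.map (Ideal.Quotient.mkₐ k (augExt k R M)) (AlgHom.id k (Quo k R M))
      (rho₀ k R M M x) = comul (R := k) (Ideal.Quotient.mk (augExt k R M) x) := by
  set mkB : M →ₐc[k] Quo k R M := Bialgebra.Quotient.mkBialgHom (augExt k R M) with hmkB
  set Φ : M ⊗[k] Quo k R M →ₐ[k] Quo k R M ⊗[k] Quo k R M :=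
    Algebra.TensorProduct.map (Ideal.Quotient.mkₐ k (augExt k R M)) (AlgHom.id k (Quo k R M))
    with hΦ
  have h1 : postcomp Φ (toConv (p₁ k R M M)) = precomp mkB (toConv (i₁ k (Quo k R M))) := by
    apply WithConv.ofConv_injective
    refine AlgHom.ext fun b => ?_
    rfl
  have h2 : postcomp Φ (toConv (p₂ k R M M)) = precomp mkB (toConv (i₂ k (Quo k R M))) := by
    apply WithConv.ofConv_injective
    refine AlgHom.ext fun b => ?_
    change Φ ((1 : M) ⊗ₜ[k] Ideal.Quotient.mk (augExt k R M) b) =
      (1 : Quo k R M) ⊗ₜ[k] Ideal.Quotient.mk (augExt k R M) b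
    rw [hΦ, Algebra.TensorProduct.map_tmul, map_one]
    rfl
  have h3 : postcomp Φ (toConv (p₁ k R M M) * toConv (p₂ k R M M)) =
      precomp mkB (toConv (comulAlgHom k (Quo k R M))) := by
    rw [map_mul, h1, h2, ← map_mul, i₁_mul_i₂]
  exact congrArg (fun f => f.ofConv x) h3

end


theorem smul_eq_tmul_mul {A : Type*} {Q : Type*} [CommRing A] [CommRing Q] [Algebra k A]
    [Algebra k Q] (a : A) (y : A ⊗[k] Q) : a • y = (a ⊗ₜ[k] (1 : Q)) * y := by
  induction y using TensorProduct.induction_on with
  | zero => simp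
  | tmul a' x =>
    rw [TensorProduct.smul_tmul', Algebra.TensorProduct.tmul_mul_tmul, one_mul, smul_eq_mul]
  | add y₁ y₂ h₁ h₂ => rw [smul_add, h₁, h₂, mul_add]

/-- **Nilpotent case.** If `R → M` is an injective bialgebra map of commutative Hopf algebras over a
field and the augmentation ideal of `R` is nilpotent, then `M` is a free `R`-module. -/
theorem free_of_nilpotent (g : R →ₐc[k] M) (hg : ∀ r, g r = algebraMap R M r)
    (hinj : Function.Injective (algebraMap R M))
    (hnil : IsNilpotent (RingHom.ker (counitAlgHom k R))) : Module.Free R M := by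
  haveI := isHopfIdeal_augExt g hg
  have hJnil : IsNilpotent (augExt k R M) := by
    obtain ⟨n, hn⟩ := hnil
    refine ⟨n, ?_⟩
    unfold augExt
    rw [← Ideal.map_pow, hn, Ideal.zero_eq_bot, Ideal.map_bot]
    rfl
  have hmk : Function.Surjective (Ideal.Quotient.mkₐ k (augExt k R M)) :=
    Ideal.Quotient.mkₐ_surjective k (augExt k R M)
  obtain ⟨lam, hlam⟩ := (Ideal.Quotient.mkₐ k (augExt k R M)).toLinearMap.exists_rightInverse_of_surjective
    (LinearMap.range_eq_top.2 hmk)
  have hlam' : ∀ y : Quo k R M, Ideal.Quotient.mk (augExt k R M) (lam y) = y :=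
    fun y => LinearMap.congr_fun hlam y
  let b := Module.Basis.ofVectorSpace k (Quo k R M)
  let m := fun i => lam (b i)
  let T : M ⊗[k] Quo k R M →ₗ[M] M ⊗[k] Quo k R M :=
    LinearMap.liftBaseChange M ((rho₀ k R M M).toLinearMap ∘ₗ lam)
  let Φ : M ⊗[k] Quo k R M →ₐ[k] Quo k R M ⊗[k] Quo k R M :=
    Algebra.TensorProduct.map (Ideal.Quotient.mkₐ k (augExt k R M)) (AlgHom.id k (Quo k R M))
  let q : M ⊗[k] Quo k R M →+ Quo k R M ⊗[k] Quo k R M := (Φ : _ →+* _).toAddMonoidHom
  have hq : Function.Surjective q :=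
    Algebra.TensorProduct.map_surjective _ _ hmk Function.surjective_id
  have hker : ∀ y, q y = 0 ↔ y ∈ (augExt k R M) • (⊤ : Submodule M (M ⊗[k] Quo k R M)) := by
    intro y
    have h1 : RingHom.ker Φ = (RingHom.ker (Ideal.Quotient.mkₐ k (augExt k R M))).map
        (Algebra.TensorProduct.includeLeft : M →ₐ[k] M ⊗[k] Quo k R M) :=
      Algebra.TensorProduct.rTensor_ker (Ideal.Quotient.mkₐ k (augExt k R M)) hmk
    have hkermk : RingHom.ker (Ideal.Quotient.mkₐ k (augExt k R M)) = augExt k R M := by
      ext x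
      rw [RingHom.mem_ker]
      exact Ideal.Quotient.eq_zero_iff_mem
    rw [hkermk] at h1
    rw [Ideal.smul_top_eq_map]
    change y ∈ RingHom.ker Φ ↔ _
    rw [h1]
    rfl
  have hT : ∀ y, q (T y) = shear k (Quo k R M) (q y) := by
    intro y
    induction y using TensorProduct.induction_on with
    | zero => simp
    | tmul a x =>
      change Φ (T (a ⊗ₜ[k] x)) = shear k (Quo k R M) (Φ (a ⊗ₜ[k] x))
      have e1 : T (a ⊗ₜ[k] x) = (a ⊗ₜ[k] (1 : Quo k R M)) * rho₀ k R M M (lam x) := by
        change LinearMap.liftBaseChange M ((rho₀ k R M M).toLinearMap ∘ₗ lam) (a ⊗ₜ[k] x) = _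
        rw [LinearMap.liftBaseChange_tmul, smul_eq_tmul_mul]
        rfl
      rw [e1, map_mul, map_mk_rho₀, hlam']
      change (Ideal.Quotient.mk (augExt k R M) a ⊗ₜ[k] (1 : Quo k R M)) * _ =
        shear k (Quo k R M) (Ideal.Quotient.mk (augExt k R M) a ⊗ₜ[k] x)
      rw [shear_tmul]
    | add y₁ y₂ h₁ h₂ => rw [map_add, map_add, h₁, h₂, map_add, map_add]
  have hTbij := bijective_of_bijective_mod hJnil T q hq hker (shear k (Quo k R M))
    (shear k (Quo k R M)).bijective hT
  let bP := Algebra.TensorProduct.basis M b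
  have hTb : ∀ i, T (bP i) = rho₀ k R M M (m i) := by
    intro i
    change T (Algebra.TensorProduct.basis M b i) = _
    rw [Algebra.TensorProduct.basis_apply]
    change LinearMap.liftBaseChange M ((rho₀ k R M M).toLinearMap ∘ₗ lam) ((1 : M) ⊗ₜ[k] b i) = _
    rw [LinearMap.liftBaseChange_tmul, one_smul]
    rfl
  have hli : LinearIndependent M (fun i => rho₀ k R M M (m i)) := by
    have h := bP.linearIndependent.map' T (LinearMap.ker_eq_bot.2 hTbij.1)
    have e : (fun i => rho₀ k R M M (m i)) = T ∘ bP := funext fun i => (hTb i).symm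
    rw [e]
    exact h
  -- `ρ` is semilinear over `R → M`
  have hρ : ∀ (r : R) (x : M), rho₀ k R M M (r • x) = algebraMap R M r • rho₀ k R M M x := by
    intro r x
    rw [Algebra.smul_def, map_mul, rho₀_algebraMap M g hg, smul_eq_tmul_mul,
      Algebra.TensorProduct.algebraMap_apply]
  have hliR : LinearIndependent R m := by
    rw [linearIndependent_iff]
    intro l hl
    have h1 : Finsupp.linearCombination M (fun i => rho₀ k R M M (m i))
        (l.mapRange (algebraMap R M) (map_zero _)) = 0 := by
      rw [Finsupp.linearCombination_apply, Finsupp.sum_mapRange_index (h := fun i a => a • rho₀ k R M M (m i)) (fun i => zero_smul _ _)]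
      have h2 := congrArg (rho₀ k R M M) hl
      rw [Finsupp.linearCombination_apply, map_zero, map_finsuppSum] at h2
      rw [← h2]
      refine Finsupp.sum_congr fun i _ => ?_
      rw [hρ]
    have h3 := (linearIndependent_iff.1 hli) _ h1
    ext i
    have h4 := DFunLike.congr_fun h3 i
    rw [Finsupp.mapRange_apply, Finsupp.zero_apply] at h4
    rw [Finsupp.zero_apply]
    exact hinj (h4.trans (map_zero _).symm)
  have hspan : ⊤ ≤ Submodule.span R (Set.range m) := by
    rw [eq_top_of_sup_smul_top hnil (Submodule.span R (Set.range m)) ?_]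
    rw [eq_top_iff]
    intro x _
    have hx1 : x - lam (Ideal.Quotient.mk (augExt k R M) x) ∈ augExt k R M := by
      rw [← Ideal.Quotient.eq, hlam']
    have hx2 : x - lam (Ideal.Quotient.mk (augExt k R M) x) ∈
        (RingHom.ker (counitAlgHom k R)) • (⊤ : Submodule R M) := by
      rw [Ideal.smul_top_eq_map]
      exact hx1
    have hx3 : lam (Ideal.Quotient.mk (augExt k R M) x) ∈ Submodule.span R (Set.range m) := by
      have hy : ∀ y : Quo k R M, lam y ∈ Submodule.span R (Set.range m) := by
        intro y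
        have hy1 : y ∈ Submodule.span k (Set.range b) := by rw [b.span_eq]; trivial
        have hy2 : lam y ∈ Submodule.map lam (Submodule.span k (Set.range b)) :=
          Submodule.mem_map_of_mem hy1
        rw [Submodule.map_span, ← Set.range_comp] at hy2
        exact Submodule.span_le_restrictScalars k R _ hy2
      exact hy _
    have hx4 : x = lam (Ideal.Quotient.mk (augExt k R M) x) +
        (x - lam (Ideal.Quotient.mk (augExt k R M) x)) := by abel
    rw [hx4]
    exact Submodule.add_mem_sup hx3 hx2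
  exact Module.Free.of_basis (Module.Basis.mk hliR hspan)

end Groth.Agent.Lib.Helper24.HopfFF
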