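import Mathlib
import Groth.Agent.Lib.Helper24.HopfFF.Torsor
import Groth.Agent.Lib.Helper24.HopfFF.AugIdeal

/-!
# Helper24 — the induced bialgebra map `B ⧸ C⁺B → A ⧸ C⁺A` for a tower `C → B → A`
-/

set_option autoImplicit false
universe u v w x

open TensorProduct Coalgebra Bialgebra WithConv

namespace Groth.Agent.Lib.Helper24.HopfFF

variable {k : Type u} [CommRing k] {C : Type v} {B : Type w} {A : Type x}
  [CommRing C] [CommRing B] [CommRing A] [HopfAlgebra k C] [HopfAlgebra k B] [HopfAlgebra k A]
  [Algebra C B] [IsScalarTower k C B] [Algebra B A] [IsScalarTower k B A]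
  [Algebra C A] [IsScalarTower C B A] [IsScalarTower k C A]

theorem augExt_le_comap :
    augExt k C B ≤ Ideal.comap (IsScalarTower.toAlgHom k B A) (augExt k C A) := by
  rw [← Ideal.map_le_iff_le_comap]
  unfold augExt
  change Ideal.map (algebraMap B A) (Ideal.map (algebraMap C B) _) ≤ _
  rw [Ideal.map_map, ← IsScalarTower.algebraMap_eq]

/-- the induced algebra map on quotients -/
noncomputable def quoMapAlg : Quo k C B →ₐ[k] Quo k C A :=
  Ideal.quotientMapₐ (augExt k C A) (IsScalarTower.toAlgHom k B A) augExt_le_comap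

theorem quoMapAlg_mk (b : B) :
    quoMapAlg (k := k) (C := C) (B := B) (A := A) (Ideal.Quotient.mk (augExt k C B) b) =
      Ideal.Quotient.mk (augExt k C A) (algebraMap B A b) := rfl

variable [(augExt k C B).IsHopfIdeal k] [(augExt k C A).IsHopfIdeal k]
  (f : B →ₐc[k] A) (hf : ∀ b, f b = algebraMap B A b)

include hf in
theorem quoMapAlg_comp_mk :
    (quoMapAlg (k := k) (C := C) (B := B) (A := A)).comp (Ideal.Quotient.mkₐ k (augExt k C B)) =
      (Ideal.Quotient.mkₐ k (augExt k C A)).comp (f : B →ₐ[k] A) := by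
  refine AlgHom.ext fun b => ?_
  change quoMapAlg (Ideal.Quotient.mk (augExt k C B) b) = Ideal.Quotient.mk (augExt k C A) (f b)
  rw [quoMapAlg_mk, hf]

/-- the induced bialgebra map on quotients -/
noncomputable def quoMap : Quo k C B →ₐc[k] Quo k C A :=
  BialgHom.ofAlgHom (quoMapAlg (k := k) (C := C) (B := B) (A := A))
    (by
      apply Ideal.Quotient.algHom_ext
      rw [AlgHom.comp_assoc, quoMapAlg_comp_mk f hf]
      refine AlgHom.ext fun b => ?_
      change counit (R := k) (f b) = counit (R := k) b
      rw [CoalgHomClass.counit_comp_apply])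
    (by
      apply Ideal.Quotient.algHom_ext
      have hB : (comulAlgHom k (Quo k C B)).comp (Ideal.Quotient.mkₐ k (augExt k C B)) =
          (Algebra.TensorProduct.map (Ideal.Quotient.mkₐ k (augExt k C B))
            (Ideal.Quotient.mkₐ k (augExt k C B))).comp (comulAlgHom k B) :=
        AlgHom.ext fun b => rfl
      have hA : (comulAlgHom k (Quo k C A)).comp (Ideal.Quotient.mkₐ k (augExt k C A)) =
          (Algebra.TensorProduct.map (Ideal.Quotient.mkₐ k (augExt k C A))
            (Ideal.Quotient.mkₐ k (augExt k C A))).comp (comulAlgHom k A) :=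
        AlgHom.ext fun b => rfl
      rw [AlgHom.comp_assoc, hB, ← AlgHom.comp_assoc, ← Algebra.TensorProduct.map_comp,
        quoMapAlg_comp_mk f hf, AlgHom.comp_assoc, quoMapAlg_comp_mk f hf, ← AlgHom.comp_assoc, hA,
        AlgHom.comp_assoc, ← BialgHom.map_comp_comulAlgHom, ← AlgHom.comp_assoc,
        ← Algebra.TensorProduct.map_comp])

theorem quoMap_mk (b : B) :
    quoMap f hf (Ideal.Quotient.mk (augExt k C B) b) =
      Ideal.Quotient.mk (augExt k C A) (algebraMap B A b) := rfl

end Groth.Agent.Lib.Helper24.HopfFF
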