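import Mathlib
import Groth.Agent.Lib.Helper24.HopfFF.Torsor
import Groth.Agent.Lib.Helper24.HopfFF.AugIdeal
import Groth.Agent.Lib.Helper24.HopfFF.QuoMap
import Groth.Agent.Lib.Helper24.HopfFF.Nilp
import Groth.Agent.Lib.Helper4.QuotFlat

/-!
# Helper24 — flatness in a tower `C → B → A` of Hopf algebras from the fibre over the unit
-/

set_option autoImplicit false
universe u v w x

open TensorProduct Coalgebra Bialgebra WithConv

namespace Groth.Agent.Lib.Helper24.HopfFF

section natural

variable {k : Type u} [CommRing k] {C : Type v} {B : Type w} {A : Type x}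
  [CommRing C] [CommRing B] [CommRing A] [HopfAlgebra k C] [HopfAlgebra k B] [HopfAlgebra k A]
  [Algebra C B] [IsScalarTower k C B] [Algebra B A] [IsScalarTower k B A]
  [Algebra C A] [IsScalarTower C B A] [IsScalarTower k C A]
  (gCB : C →ₐc[k] B) (hCB : ∀ c, gCB c = algebraMap C B c)
  (gBA : B →ₐc[k] A) (hBA : ∀ b, gBA b = algebraMap B A b)
  (gCA : C →ₐc[k] A) (hCA : ∀ c, gCA c = algebraMap C A c)

/-- `A ⊗[C] B → A ⊗[C] A` -/
noncomputable def m₁ : A ⊗[C] B →ₐ[A] A ⊗[C] A :=
  Algebra.TensorProduct.map (AlgHom.id A A) (IsScalarTower.toAlgHom C B A)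

/-- `A ⊗[k] B̄ → A ⊗[k] Ā` -/
noncomputable def m₂ : A ⊗[k] Quo k C B →ₐ[A] A ⊗[k] Quo k C A :=
  Algebra.TensorProduct.map (AlgHom.id A A) (quoMapAlg (k := k) (C := C) (B := B) (A := A))

include hBA in
theorem rho₀_natural (b : B) :
    rho₀ k C A A (algebraMap B A b) = m₂ (k := k) (C := C) (B := B) (A := A) (rho₀ k C B A b) := by
  have h1 : precomp gBA (toConv (p₁ k C A A)) =
      postcomp ((m₂ (k := k) (C := C) (B := B) (A := A)).restrictScalars k)
        (toConv (p₁ k C B A)) := by
    apply WithConv.ofConv_injective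
    refine AlgHom.ext fun b => ?_
    change (algebraMap A A (gBA b)) ⊗ₜ[k] (1 : Quo k C A) =
      m₂ ((algebraMap B A b) ⊗ₜ[k] (1 : Quo k C B))
    unfold m₂
    rw [Algebra.TensorProduct.map_tmul, map_one, hBA]
    rfl
  have h2 : precomp gBA (toConv (p₂ k C A A)) =
      postcomp ((m₂ (k := k) (C := C) (B := B) (A := A)).restrictScalars k)
        (toConv (p₂ k C B A)) := by
    apply WithConv.ofConv_injective
    refine AlgHom.ext fun b => ?_
    change (1 : A) ⊗ₜ[k] Ideal.Quotient.mk (augExt k C A) (gBA b) =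
      m₂ ((1 : A) ⊗ₜ[k] Ideal.Quotient.mk (augExt k C B) b)
    unfold m₂
    rw [Algebra.TensorProduct.map_tmul, quoMapAlg_mk, hBA]
    rfl
  have h3 : precomp gBA (toConv (p₁ k C A A) * toConv (p₂ k C A A)) =
      postcomp ((m₂ (k := k) (C := C) (B := B) (A := A)).restrictScalars k)
        (toConv (p₁ k C B A) * toConv (p₂ k C B A)) := by
    rw [map_mul, map_mul, h1, h2]
  have h4 := congrArg (fun f => f.ofConv b) h3
  simp only [precomp_apply] at h4
  rw [hBA] at h4
  exact h4

include hBA in
theorem theta_natural (z : A ⊗[C] B) :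
    theta A gCA hCA (m₁ z) = m₂ (theta A gCB hCB z) := by
  induction z using TensorProduct.induction_on with
  | zero => simp
  | tmul a b =>
    have e1 : m₁ (a ⊗ₜ[C] b) = a ⊗ₜ[C] (algebraMap B A b) := rfl
    rw [e1, theta_tmul, theta_tmul, map_mul, rho₀_natural gBA hBA]
    have e2 : m₂ (k := k) (C := C) (B := B) (A := A) (a ⊗ₜ[k] (1 : Quo k C B)) =
        a ⊗ₜ[k] (1 : Quo k C A) := by
      unfold m₂
      rw [Algebra.TensorProduct.map_tmul, map_one]
      rfl
    rw [e2]
  | add z₁ z₂ h₁ h₂ => rw [map_add, map_add, h₁, h₂, map_add, map_add]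

end natural

section tower

variable {k : Type u} [Field k] {C : Type v} {B : Type w} {A : Type x}
  [CommRing C] [CommRing B] [CommRing A] [HopfAlgebra k C] [HopfAlgebra k B] [HopfAlgebra k A]
  [Algebra C B] [IsScalarTower k C B] [Algebra B A] [IsScalarTower k B A]
  [Algebra C A] [IsScalarTower C B A] [IsScalarTower k C A]
  (gCB : C →ₐc[k] B) (hCB : ∀ c, gCB c = algebraMap C B c)
  (gBA : B →ₐc[k] A) (hBA : ∀ b, gBA b = algebraMap B A b)
  (gCA : C →ₐc[k] A) (hCA : ∀ c, gCA c = algebraMap C A c)

omit [Algebra C A] [IsScalarTower C B A] [IsScalarTower k C A] [Algebra B A] [IsScalarTower k B A]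
  [HopfAlgebra k A] [CommRing A] in
/-- the augmentation ideal of the quotient `B ⧸ C⁺B` is the image of that of `B` -/
theorem ker_counit_quo_le [(augExt k C B).IsHopfIdeal k] :
    RingHom.ker (counitAlgHom k (Quo k C B)) ≤
      Ideal.map (Ideal.Quotient.mk (augExt k C B)) (RingHom.ker (counitAlgHom k B)) := by
  intro y hy
  obtain ⟨b, rfl⟩ := Ideal.Quotient.mk_surjective y
  refine Ideal.mem_map_of_mem _ ?_
  rw [RingHom.mem_ker] at hy ⊢
  exact hy

include hCB hBA hCA in
/-- **Tower criterion.** In a tower `C → B → A` of commutative Hopf algebras over a field with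
`A` faithfully flat over `C`, `B → A` injective and the augmentation ideal of `B` nilpotent modulo
`C⁺B`, the algebra `A` is flat over `B`. -/
theorem flat_of_tower [Module.FaithfullyFlat C A] (hinj : Function.Injective (algebraMap B A))
    (hnil : ∃ n : ℕ, (RingHom.ker (counitAlgHom k B)) ^ n ≤ augExt k C B) :
    Module.Flat B A := by
  haveI hIB : (augExt k C B).IsHopfIdeal k := isHopfIdeal_augExt gCB hCB
  haveI hIA : (augExt k C A).IsHopfIdeal k := isHopfIdeal_augExt gCA hCA
  set fbar : Quo k C B →ₐc[k] Quo k C A := quoMap gBA hBA with hfbar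
  -- injectivity of `m₁`
  have hm₁ : Function.Injective (m₁ (C := C) (B := B) (A := A)) := by
    have e : ∀ z, m₁ (C := C) (B := B) (A := A) z =
        LinearMap.lTensor A (IsScalarTower.toAlgHom C B A).toLinearMap z := by
      intro z
      induction z using TensorProduct.induction_on with
      | zero => simp
      | tmul a b => rfl
      | add z₁ z₂ h₁ h₂ => rw [map_add, map_add, h₁, h₂]
    have h := Module.Flat.lTensor_preserves_injective_linearMap (M := A)
      (IsScalarTower.toAlgHom C B A).toLinearMap hinj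
    intro z₁ z₂ hz
    rw [e, e] at hz
    exact h hz
  -- injectivity of `m₂`
  have hm₂ : Function.Injective (m₂ (k := k) (C := C) (B := B) (A := A)) := by
    intro y₁ y₂ hy
    obtain ⟨z₁, rfl⟩ := (theta A gCB hCB).surjective y₁
    obtain ⟨z₂, rfl⟩ := (theta A gCB hCB).surjective y₂
    rw [← theta_natural gCB hCB gBA hBA gCA hCA, ← theta_natural gCB hCB gBA hBA gCA hCA] at hy
    rw [hm₁ ((theta A gCA hCA).injective hy)]
  -- `A` is nontrivial, so faithfully flat over `k`
  haveI : Nontrivial A := (counitAlgHom k A : A →+* k).domain_nontrivial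
  -- injectivity of `fbar`
  have hfbar_inj : Function.Injective fbar := by
    have e : ∀ y, m₂ (k := k) (C := C) (B := B) (A := A) y =
        LinearMap.lTensor A (quoMapAlg (k := k) (C := C) (B := B) (A := A)).toLinearMap y := by
      intro y
      induction y using TensorProduct.induction_on with
      | zero => simp
      | tmul a b => rfl
      | add z₁ z₂ h₁ h₂ => rw [map_add, map_add, h₁, h₂]
    have h : Function.Injective
        (LinearMap.lTensor A (quoMapAlg (k := k) (C := C) (B := B) (A := A)).toLinearMap) := by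
      intro y₁ y₂ hy
      rw [← e, ← e] at hy
      exact hm₂ hy
    exact (Module.FaithfullyFlat.lTensor_injective_iff_injective k A _).1 h
  -- nilpotency of the augmentation ideal of `B ⧸ C⁺B`
  have hnilQ : IsNilpotent (RingHom.ker (counitAlgHom k (Quo k C B))) := by
    obtain ⟨n, hn⟩ := hnil
    refine ⟨n, ?_⟩
    rw [Ideal.zero_eq_bot, eq_bot_iff]
    refine (Ideal.pow_right_mono (ker_counit_quo_le (k := k) (C := C) (B := B)) n).trans ?_
    rw [← Ideal.map_pow]
    refine (Ideal.map_mono hn).trans ?_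
    rw [Ideal.map_quotient_self]
  -- `fbar` is flat (even free)
  have hq_flat : (quoMapAlg (k := k) (C := C) (B := B) (A := A)).Flat := by
    letI algQ : Algebra (Quo k C B) (Quo k C A) := (fbar : Quo k C B →+* Quo k C A).toAlgebra
    haveI : IsScalarTower k (Quo k C B) (Quo k C A) :=
      IsScalarTower.of_algebraMap_eq (fun r => (AlgHomClass.commutes fbar r).symm)
    haveI : Module.Free (Quo k C B) (Quo k C A) :=
      free_of_nilpotent fbar (fun _ => rfl) hfbar_inj hnilQ
    change (algebraMap (Quo k C B) (Quo k C A)).Flat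
    rw [RingHom.flat_algebraMap_iff]
    infer_instance
  -- hence `m₂` is flat
  have hm₂_flat : (m₂ (k := k) (C := C) (B := B) (A := A) : A ⊗[k] Quo k C B →+*
      A ⊗[k] Quo k C A).Flat :=
    RingHom.Flat.lTensor (S := A) A hq_flat
  -- hence `m₁` is flat
  have hm₁_flat : (m₁ (C := C) (B := B) (A := A) : A ⊗[C] B →+* A ⊗[C] A).Flat := by
    have e : (m₁ (C := C) (B := B) (A := A) : A ⊗[C] B →+* A ⊗[C] A) =
        ((theta A gCA hCA).symm : A ⊗[k] Quo k C A →+* A ⊗[C] A).comp
          ((m₂ (k := k) (C := C) (B := B) (A := A) : A ⊗[k] Quo k C B →+* A ⊗[k] Quo k C A).comp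
            (theta A gCB hCB : A ⊗[C] B →+* A ⊗[k] Quo k C B)) := by
      refine RingHom.ext fun z => ?_
      change m₁ z = (theta A gCA hCA).symm (m₂ (theta A gCB hCB z))
      rw [← theta_natural gCB hCB gBA hBA gCA hCA, AlgEquiv.symm_apply_apply]
    rw [e]
    exact ((RingHom.Flat.of_bijective (theta A gCB hCB).bijective).comp hm₂_flat).comp
      (RingHom.Flat.of_bijective (theta A gCA hCA).symm.bijective)
  -- descent along `A → A ⊗[C] A`
  have hg : (algebraMap A (A ⊗[C] A)).FaithfullyFlat := by
    rw [RingHom.faithfullyFlat_algebraMap_iff]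
    infer_instance
  have hcomp : ((algebraMap A (A ⊗[C] A)).comp (algebraMap B A)).Flat := by
    have e : (algebraMap A (A ⊗[C] A)).comp (algebraMap B A) =
        ((Algebra.TensorProduct.comm C A A : A ⊗[C] A ≃ₐ[C] A ⊗[C] A) : A ⊗[C] A →+* A ⊗[C] A).comp
          ((m₁ (C := C) (B := B) (A := A) : A ⊗[C] B →+* A ⊗[C] A).comp
            (((Algebra.TensorProduct.comm C B A : B ⊗[C] A ≃ₐ[C] A ⊗[C] B) :
              B ⊗[C] A →+* A ⊗[C] B).comp (algebraMap B (B ⊗[C] A)))) := by
      refine RingHom.ext fun b => ?_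
      rfl
    rw [e]
    have h1 : (algebraMap B (B ⊗[C] A)).Flat := by
      rw [RingHom.flat_algebraMap_iff]
      infer_instance
    exact ((h1.comp (RingHom.Flat.of_bijective
      (Algebra.TensorProduct.comm C B A).bijective)).comp hm₁_flat).comp
      (RingHom.Flat.of_bijective (Algebra.TensorProduct.comm C A A).bijective)
  have hf := RingHom.Flat.of_comp_faithfullyFlat hg hcomp
  rwa [RingHom.flat_algebraMap_iff] at hf

end tower

end Groth.Agent.Lib.Helper24.HopfFF
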