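import Mathlib
import Groth.Agent.Lib.Helper24.HopfFF.SubHopf
import Groth.Agent.Lib.Helper24.HopfFF.Reduced
import Groth.Agent.Lib.Helper24.HopfFF.Tower
import Groth.Agent.S8012

/-!
# Helper24 — injective bialgebra maps out of a finitely generated Hopf algebra over a perfect field
of characteristic `p` are flat
-/

set_option autoImplicit false
universe u

open TensorProduct Coalgebra Bialgebra

namespace Groth.Agent.Lib.Helper24.HopfFF

theorem flat_of_perfect {k B A : Type u} [Field k] [PerfectField k] (p : ℕ) [Fact p.Prime]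
    [CharP k p] [CommRing B] [CommRing A] [HopfAlgebra k B] [HopfAlgebra k A]
    [Algebra.FiniteType k B] (f : B →ₐc[k] A) (hf : Function.Injective f) :
    (f : B →+* A).Flat := by
  obtain ⟨h1, r₀, h2⟩ := Groth.Agent.S8012.result k B p
  set r := max r₀ 1 with hr
  have hrpos : 0 < r := lt_of_lt_of_le Nat.one_pos (le_max_right _ _)
  obtain ⟨C, hCset, hCsub⟩ := h1 r hrpos
  have hCred : Algebra.IsGeometricallyReduced k C := h2 r (le_max_left _ _) C hCset
  have hC : IsSub C := (isSub_iff C).2 hCsub
  letI := hopfB hC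
  haveI : _root_.IsReduced C := Algebra.isReduced_of_isGeometricallyReduced k (A := C)
  let gCB : C →ₐc[k] B := inclB hC
  let gCA : C →ₐc[k] A := f.comp gCB
  letI : Algebra B A := (f : B →+* A).toAlgebra
  haveI : IsScalarTower k B A := .of_algebraMap_eq fun r => (AlgHomClass.commutes f r).symm
  have hCA_ff : (gCA : C →+* A).FaithfullyFlat :=
    faithfullyFlat_of_isReduced gCA (hf.comp Subtype.val_injective)
  haveI : Module.FaithfullyFlat C A := by
    rw [← RingHom.faithfullyFlat_algebraMap_iff]
    exact hCA_ff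
  -- nilpotency of the augmentation ideal of `B` modulo `C⁺B`
  have hnil : ∃ n : ℕ, (RingHom.ker (counitAlgHom k B)) ^ n ≤ augExt k C B := by
    haveI : IsNoetherianRing B := Algebra.FiniteType.isNoetherianRing k B
    have hfg : (RingHom.ker (counitAlgHom k B)).FG := IsNoetherian.noetherian _
    refine Ideal.exists_pow_le_of_le_radical_of_fg ?_ hfg
    intro x hx
    refine ⟨p ^ r, ?_⟩
    have hxC : x ^ p ^ r ∈ C := by
      have : x ^ p ^ r ∈ (C : Set B) := by
        rw [hCset]
        exact ⟨x, rfl⟩
      exact this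
    have hc : (⟨x ^ p ^ r, hxC⟩ : C) ∈ RingHom.ker (counitAlgHom k C) := by
      rw [RingHom.mem_ker]
      change counitAlgHom k B (x ^ p ^ r) = 0
      rw [map_pow]
      have : counitAlgHom k B x = 0 := hx
      rw [this]
      exact zero_pow (pow_ne_zero _ (Fact.out : p.Prime).ne_zero)
    exact Ideal.mem_map_of_mem (algebraMap C B) hc
  have hflat : Module.Flat B A :=
    flat_of_tower gCB (fun _ => rfl) f (fun _ => rfl) gCA (fun _ => rfl) hf hnil
  rw [← RingHom.flat_algebraMap_iff] at hflat
  exact hflat

end Groth.Agent.Lib.Helper24.HopfFF
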