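import Mathlib
import Groth.Agent.Lib.Helper24.HopfFF.Perfect
import Groth.Agent.Lib.Helper4.SmoothRed
import Groth.Agent.S0353

/-!
# Helper24 — injective bialgebra maps out of a finitely generated Hopf algebra over a field are flat
-/

set_option autoImplicit false
universe u v w

open TensorProduct Coalgebra Bialgebra AlgebraicGeometry CategoryTheory

namespace Groth.Agent.Lib.Helper24.HopfFF

section include_

variable (k : Type u) (K : Type v) (A : Type w) [CommRing k] [CommRing K] [CommRing A] [Algebra k K]
  [Algebra k A]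

theorem includeRight_flat [Module.Flat k K] :
    ((Algebra.TensorProduct.includeRight : A →ₐ[k] K ⊗[k] A) : A →+* K ⊗[k] A).Flat := by
  have e : ((Algebra.TensorProduct.includeRight : A →ₐ[k] K ⊗[k] A) : A →+* K ⊗[k] A) =
      ((Algebra.TensorProduct.comm k A K : A ⊗[k] K ≃ₐ[k] K ⊗[k] A) : A ⊗[k] K →+* K ⊗[k] A).comp
        (algebraMap A (A ⊗[k] K)) := by
    refine RingHom.ext fun a => ?_
    rfl
  rw [e]
  have h1 : (algebraMap A (A ⊗[k] K)).Flat := by
    rw [RingHom.flat_algebraMap_iff]
    infer_instance
  exact h1.comp (RingHom.Flat.of_bijective (Algebra.TensorProduct.comm k A K).bijective)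

theorem includeRight_faithfullyFlat [Module.FaithfullyFlat k K] :
    ((Algebra.TensorProduct.includeRight : A →ₐ[k] K ⊗[k] A) : A →+* K ⊗[k] A).FaithfullyFlat := by
  rw [RingHom.FaithfullyFlat.iff_flat_and_comap_surjective]
  refine ⟨includeRight_flat k K A, ?_⟩
  have e : ((Algebra.TensorProduct.includeRight : A →ₐ[k] K ⊗[k] A) : A →+* K ⊗[k] A) =
      ((Algebra.TensorProduct.comm k A K : A ⊗[k] K ≃ₐ[k] K ⊗[k] A) : A ⊗[k] K →+* K ⊗[k] A).comp
        (algebraMap A (A ⊗[k] K)) := by
    refine RingHom.ext fun a => ?_
    rfl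
  rw [e]
  have h1 : (algebraMap A (A ⊗[k] K)).FaithfullyFlat := by
    rw [RingHom.faithfullyFlat_algebraMap_iff]
    infer_instance
  have h2 := (RingHom.FaithfullyFlat.iff_flat_and_comap_surjective.1 h1).2
  have h3 := (RingHom.FaithfullyFlat.iff_flat_and_comap_surjective.1
    (RingHom.FaithfullyFlat.of_bijective (Algebra.TensorProduct.comm k A K).bijective)).2
  intro x
  obtain ⟨y, rfl⟩ := h2 x
  obtain ⟨z, rfl⟩ := h3 y
  exact ⟨z, rfl⟩

end include_

/-- **Cartier**: a finitely generated commutative Hopf algebra over a field of characteristic zero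
is reduced. -/
theorem isReduced_of_charZero (k B : Type u) [Field k] [CharZero k] [CommRing B] [HopfAlgebra k B]
    [Algebra.FiniteType k B] : _root_.IsReduced B := by
  let G : Over (Spec (CommRingCat.of k)) := (Spec (.of B)).asOver (Spec (.of k))
  haveI : LocallyOfFiniteType G.hom :=
    locallyOfFiniteType_specOverSpec (R := .of k) (A := .of B)
  have hs : Smooth G.hom := Groth.Agent.S0353.result k G
  exact @Groth.Agent.Lib.Helper4.SmoothRed.isReduced_of_smooth_spec k _ (.of B) G.hom hs

/-- **Finitely generated source.** An injective bialgebra map out of a finitely generated commutative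
Hopf algebra over a field is flat. -/
theorem flat_of_finiteType {k B A : Type u} [Field k] [CommRing B] [CommRing A] [HopfAlgebra k B]
    [HopfAlgebra k A] [Algebra.FiniteType k B] (f : B →ₐc[k] A) (hf : Function.Injective f) :
    (f : B →+* A).Flat := by
  obtain ⟨p, hp⟩ := CharP.exists k
  rcases CharP.char_is_prime_or_zero k p with hpp | rfl
  · haveI := Fact.mk hpp
    let K := AlgebraicClosure k
    let fK : K ⊗[k] B →ₐc[K] K ⊗[k] A := Bialgebra.TensorProduct.map (BialgHom.id K K) f
    have hfK : Function.Injective fK := by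
      have e : ∀ z, fK z = LinearMap.lTensor K (f : B →ₐ[k] A).toLinearMap z := by
        intro z
        induction z using TensorProduct.induction_on with
        | zero => simp
        | tmul a b => rfl
        | add z₁ z₂ h₁ h₂ => rw [map_add, map_add, h₁, h₂]
      have h := Module.Flat.lTensor_preserves_injective_linearMap (M := K)
        (f : B →ₐ[k] A).toLinearMap hf
      intro z₁ z₂ hz
      rw [e, e] at hz
      exact h hz
    have h1 : (fK : K ⊗[k] B →+* K ⊗[k] A).Flat := flat_of_perfect p fK hfK
    have h2 := includeRight_flat k K B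
    have h3 := includeRight_faithfullyFlat k K A
    refine RingHom.Flat.of_comp_faithfullyFlat h3 ?_
    have e : ((Algebra.TensorProduct.includeRight : A →ₐ[k] K ⊗[k] A) : A →+* K ⊗[k] A).comp
        (f : B →+* A) = (fK : K ⊗[k] B →+* K ⊗[k] A).comp
          ((Algebra.TensorProduct.includeRight : B →ₐ[k] K ⊗[k] B) : B →+* K ⊗[k] B) :=
      RingHom.ext fun b => rfl
    rw [e]
    exact h2.comp h1
  · haveI : CharZero k := CharP.charP_to_charZero k
    haveI := isReduced_of_charZero k B
    exact (faithfullyFlat_of_isReduced f hf).flat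

end Groth.Agent.Lib.Helper24.HopfFF
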