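import Mathlib
import Groth.Agent.Lib.Helper24.HopfFF.SubHopf
import Groth.Agent.S5375

/-!
# Helper24 — flatness over a directed union of subalgebras; finite sups of sub-Hopf-algebras
-/

set_option autoImplicit false
universe u v w

open TensorProduct Coalgebra Bialgebra

namespace Groth.Agent.Lib.Helper24.HopfFF

/-- If every finite subset of `R` lies in a subalgebra over which `T` is flat, then `T` is flat
over `R`. -/
theorem flat_of_directed {k : Type u} {R : Type v} {T : Type w} [CommRing k] [CommRing R]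
    [CommRing T] [Algebra k R] (g : R →+* T)
    (h : ∀ F : Finset R, ∃ S : Subalgebra k R, (↑F : Set R) ⊆ S ∧ (g.comp S.val.toRingHom).Flat) :
    g.Flat := by
  classical
  letI := g.toAlgebra
  change (algebraMap R T).Flat
  rw [RingHom.flat_algebraMap_iff]
  refine Module.Flat.of_forall_isTrivialRelation ?_
  intro l f x hfx
  obtain ⟨S, hFS, hS⟩ := h (Finset.univ.image f)
  have hfS : ∀ i, f i ∈ S := fun i => hFS (by simp)
  have hSflat : Module.Flat S T := hS
  have hrel : ∑ i, (⟨f i, hfS i⟩ : S) • x i = 0 := by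
    rw [← hfx]
    rfl
  obtain ⟨n, a, y, h1, h2⟩ := Module.Flat.isTrivialRelation_of_sum_smul_eq_zero hrel
  refine ⟨n, fun i j => (a i j : R), y, fun i => ?_, fun j => ?_⟩
  · rw [h1 i]
    rfl
  · have := congrArg (fun s : S => (s : R)) (h2 j)
    simpa using this

section sup

variable {k : Type u} [Field k] {A : Type v} [CommRing A] [HopfAlgebra k A]

theorem incl₂_range_mono {B₁ B₂ : Subalgebra k A} (h : B₁ ≤ B₂) :
    (incl₂ B₁).range ≤ (incl₂ B₂).range := by
  rintro _ ⟨z, rfl⟩
  refine ⟨Algebra.TensorProduct.map (Subalgebra.inclusion h) (Subalgebra.inclusion h) z, ?_⟩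
  induction z using TensorProduct.induction_on with
  | zero => simp
  | tmul a b => rfl
  | add z₁ z₂ h₁ h₂ => rw [map_add, map_add, map_add, h₁, h₂]

/-- the supremum of two sub-Hopf-algebras is a sub-Hopf-algebra -/
theorem IsSub.sup {B₁ B₂ : Subalgebra k A} (h₁ : IsSub B₁) (h₂ : IsSub B₂) : IsSub (B₁ ⊔ B₂) := by
  constructor
  · have hle : B₁ ⊔ B₂ ≤ Subalgebra.comap (comulAlgHom k A) (incl₂ (B₁ ⊔ B₂)).range := by
      refine sup_le (fun b hb => ?_) (fun b hb => ?_)
      · exact incl₂_range_mono le_sup_left (h₁.comul_mem b hb)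
      · exact incl₂_range_mono le_sup_right (h₂.comul_mem b hb)
    exact fun b hb => hle hb
  · have hle : B₁ ⊔ B₂ ≤ Subalgebra.comap (HopfAlgebra.antipodeAlgHom k A) (B₁ ⊔ B₂) := by
      refine sup_le (fun b hb => ?_) (fun b hb => ?_)
      · exact (le_sup_left : B₁ ≤ B₁ ⊔ B₂) (h₁.antipode_mem b hb)
      · exact (le_sup_right : B₂ ≤ B₁ ⊔ B₂) (h₂.antipode_mem b hb)
    exact fun b hb => hle hb

end sup

/-- every finite subset of a commutative Hopf algebra over a field lies in a finitely generated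
sub-Hopf-algebra -/
theorem exists_fg_isSub_of_finset {k A : Type u} [Field k] [CommRing A] [HopfAlgebra k A]
    (F : Finset A) : ∃ B : Subalgebra k A, (↑F : Set A) ⊆ B ∧ B.FG ∧ IsSub B := by
  classical
  induction F using Finset.induction_on with
  | empty =>
    obtain ⟨B, -, hfg, hB⟩ := Groth.Agent.S5375.result k A 0
    exact ⟨B, by simp, hfg, (isSub_iff B).2 hB⟩
  | insert x F _ ih =>
    obtain ⟨B₁, hF, hfg₁, hB₁⟩ := ih
    obtain ⟨B₂, hx, hfg₂, hB₂⟩ := Groth.Agent.S5375.result k A x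
    refine ⟨B₁ ⊔ B₂, ?_, hfg₁.sup hfg₂, hB₁.sup ((isSub_iff B₂).2 hB₂)⟩
    intro y hy
    rw [Finset.coe_insert, Set.mem_insert_iff] at hy
    rcases hy with rfl | hy
    · exact (le_sup_right : B₂ ≤ B₁ ⊔ B₂) hx
    · exact (le_sup_left : B₁ ≤ B₁ ⊔ B₂) (hF hy)

end Groth.Agent.Lib.Helper24.HopfFF
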