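import Mathlib
import Groth.Agent.Lib.Helper24.HopfFF.BaseChange
import Groth.Agent.Lib.Helper24.HopfFF.Directed

/-!
# Helper24 — an injective bialgebra map of commutative Hopf algebras over a field is faithfully flat
-/

set_option autoImplicit false
universe u

open TensorProduct Coalgebra Bialgebra

namespace Groth.Agent.Lib.Helper24.HopfFF

/-- **Main theorem.** An injective bialgebra map of commutative Hopf algebras over a field is
faithfully flat (no finiteness hypotheses). -/
theorem faithfullyFlat_of_injective {k B A : Type u} [Field k] [CommRing B] [CommRing A]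
    [HopfAlgebra k B] [HopfAlgebra k A] (f : B →ₐc[k] A) (hf : Function.Injective f) :
    (f : B →+* A).FaithfullyFlat := by
  rw [RingHom.FaithfullyFlat.iff_flat_and_comap_surjective]
  refine ⟨?_, comap_surjective_of_injective f hf⟩
  refine flat_of_directed (k := k) _ fun F => ?_
  obtain ⟨S, hFS, hfg, hS⟩ := exists_fg_isSub_of_finset (k := k) F
  refine ⟨S, hFS, ?_⟩
  letI := hopfB hS
  haveI : Algebra.FiniteType k S := (Subalgebra.fg_iff_finiteType S).1 hfg
  exact flat_of_finiteType (f.comp (inclB hS)) (hf.comp Subtype.val_injective)

/-- a commutative Hopf algebra over a field is faithfully flat over any sub-Hopf-algebra -/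
theorem faithfullyFlat_of_isSub {k A : Type u} [Field k] [CommRing A] [HopfAlgebra k A]
    {B : Subalgebra k A} (hB : IsSub B) : Module.FaithfullyFlat ↥B A := by
  letI := hopfB hB
  have h := faithfullyFlat_of_injective (inclB hB) Subtype.val_injective
  rw [← RingHom.faithfullyFlat_algebraMap_iff]
  exact h

end Groth.Agent.Lib.Helper24.HopfFF
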