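import Mathlib
import Groth.Agent.Lib.Helper24.HopfFF.Main

/-!
# Helper24 — the range of a bialgebra map is a sub-Hopf-algebra; faithfully flat epimorphisms
-/

set_option autoImplicit false
universe u v w

open TensorProduct Coalgebra Bialgebra

namespace Groth.Agent.Lib.Helper24.HopfFF

/-- a bialgebra map of commutative Hopf algebras commutes with the antipodes -/
theorem antipode_bialgHom {k : Type u} [CommRing k] {B : Type v} {A : Type w} [CommRing B]
    [CommRing A] [HopfAlgebra k B] [HopfAlgebra k A] (f : B →ₐc[k] A) (b : B) :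
    HopfAlgebra.antipode k (f b) = f (HopfAlgebra.antipode k b) := by
  letI : Algebra B A := (f : B →+* A).toAlgebra
  haveI : IsScalarTower k B A := .of_algebraMap_eq fun r => (AlgHomClass.commutes f r).symm
  exact antipode_comp f (fun _ => rfl) b

/-- the range of a bialgebra map is a sub-Hopf-algebra -/
theorem isSub_range {k : Type u} [Field k] {B : Type v} {A : Type w} [CommRing B]
    [CommRing A] [HopfAlgebra k B] [HopfAlgebra k A] (f : B →ₐc[k] A) :
    IsSub (f : B →ₐ[k] A).range := by
  constructor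
  · rintro _ ⟨b, rfl⟩
    have h1 : comul (R := k) (f b) =
        Algebra.TensorProduct.map (f : B →ₐ[k] A) (f : B →ₐ[k] A) (comul (R := k) b) := by
      have := congrArg (fun g : B →ₐ[k] A ⊗[k] A => g b) (BialgHom.map_comp_comulAlgHom f)
      exact this.symm
    change comul (R := k) (f b) ∈ _
    rw [h1]
    generalize comul (R := k) b = z
    induction z using TensorProduct.induction_on with
    | zero => rw [map_zero]; exact Subalgebra.zero_mem _
    | tmul x y =>
      exact ⟨(f : B →ₐ[k] A).rangeRestrict x ⊗ₜ[k] (f : B →ₐ[k] A).rangeRestrict y, rfl⟩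
    | add z₁ z₂ h₁ h₂ => rw [map_add]; exact Subalgebra.add_mem _ h₁ h₂
  · rintro _ ⟨b, rfl⟩
    exact ⟨HopfAlgebra.antipode k b, (antipode_bialgHom f b).symm⟩

/-- a faithfully flat epimorphism of commutative rings is surjective -/
theorem surjective_of_faithfullyFlat_of_epi {B A : Type u} [CommRing B] [CommRing A] (f : B →+* A)
    (hf : f.FaithfullyFlat)
    (hepi : ∀ (R : Type u) [CommRing R] (g h : A →+* R), g.comp f = h.comp f → g = h) :
    Function.Surjective f := by
  algebraize [f]
  haveI hff : Module.FaithfullyFlat B A := by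
    rw [← RingHom.faithfullyFlat_algebraMap_iff]
    exact hf
  have key : ∀ a : A, a ⊗ₜ[B] (1 : A) = (1 : A) ⊗ₜ[B] a := by
    have h := hepi (A ⊗[B] A) (Algebra.TensorProduct.includeLeftRingHom)
      ((Algebra.TensorProduct.includeRight : A →ₐ[B] A ⊗[B] A) : A →+* A ⊗[B] A) ?_
    · intro a
      exact congrArg (fun g : A →+* A ⊗[B] A => g a) h
    · refine RingHom.ext fun b => ?_
      change (algebraMap B A b) ⊗ₜ[B] (1 : A) = (1 : A) ⊗ₜ[B] (algebraMap B A b)
      rw [Algebra.algebraMap_eq_smul_one, TensorProduct.smul_tmul]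
  have hs : Function.Surjective (LinearMap.lTensor A (Algebra.linearMap B A)) := by
    intro z
    induction z using TensorProduct.induction_on with
    | zero => exact ⟨0, map_zero _⟩
    | tmul a a' =>
      refine ⟨(a * a') ⊗ₜ[B] (1 : B), ?_⟩
      rw [LinearMap.lTensor_tmul, Algebra.linearMap_apply, map_one]
      calc (a * a') ⊗ₜ[B] (1 : A) = (a ⊗ₜ[B] (1 : A)) * (a' ⊗ₜ[B] (1 : A)) := by
            rw [Algebra.TensorProduct.tmul_mul_tmul, mul_one]
        _ = (a ⊗ₜ[B] (1 : A)) * ((1 : A) ⊗ₜ[B] a') := by rw [key a']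
        _ = a ⊗ₜ[B] a' := by rw [Algebra.TensorProduct.tmul_mul_tmul, mul_one, one_mul]
    | add z₁ z₂ h₁ h₂ =>
      obtain ⟨w₁, rfl⟩ := h₁
      obtain ⟨w₂, rfl⟩ := h₂
      exact ⟨w₁ + w₂, map_add _ _ _⟩
  exact (Module.FaithfullyFlat.lTensor_surjective_iff_surjective B A _).1 hs

end Groth.Agent.Lib.Helper24.HopfFF
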