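import Mathlib

/-!
# Helper24 — Hopf algebra structure induced along an injective algebra map whose image is stable
under comultiplication and antipode (over a field); in particular transport along an algebra
equivalence, across universes
-/

set_option autoImplicit false
universe u v w

open TensorProduct Coalgebra Bialgebra

namespace Groth.Agent.Lib.Helper24.HopfFF.Transport

variable {k : Type u} [Field k] {A : Type v} [CommRing A] [HopfAlgebra k A]
  {A₀ : Type w} [CommRing A₀] [Algebra k A₀]

section incl

variable (ι : A₀ →ₐ[k] A) (hι : Function.Injective ι)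

/-- `A₀ ⊗ A₀ → A ⊗ A` -/
noncomputable def incl₂ : A₀ ⊗[k] A₀ →ₐ[k] A ⊗[k] A := Algebra.TensorProduct.map ι ι

include hι in
theorem incl₂_injective : Function.Injective (incl₂ ι) :=
  TensorProduct.map_injective_of_flat_flat (R := k) ι.toLinearMap ι.toLinearMap hι hι

/-- `A₀ ⊗ (A₀ ⊗ A₀) → A ⊗ (A ⊗ A)` -/
noncomputable def incl₃ : A₀ ⊗[k] (A₀ ⊗[k] A₀) →ₐ[k] A ⊗[k] (A ⊗[k] A) :=
  Algebra.TensorProduct.map ι (incl₂ ι)

include hι in
theorem incl₃_injective : Function.Injective (incl₃ ι) :=
  TensorProduct.map_injective_of_flat_flat (R := k) ι.toLinearMap (incl₂ ι).toLinearMap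
    hι (incl₂_injective ι hι)

end incl

/-- the image of `ι` is stable under comultiplication and antipode -/
structure IsStable (ι : A₀ →ₐ[k] A) : Prop where
  inj : Function.Injective ι
  comul_mem : ∀ b : A₀, comul (R := k) (A := A) (ι b) ∈ (incl₂ ι).range
  antipode_mem : ∀ b : A₀, HopfAlgebra.antipode k (ι b) ∈ ι.range

section structure_

variable {ι : A₀ →ₐ[k] A} (hB : IsStable ι)

/-- the induced comultiplication -/
noncomputable def comulB : A₀ →ₐ[k] A₀ ⊗[k] A₀ :=
  ((AlgEquiv.ofInjective (incl₂ ι) (incl₂_injective ι hB.inj)).symm : _ →ₐ[k] _).comp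
    (((comulAlgHom k A).comp ι).codRestrict (incl₂ ι).range
      (fun b => hB.comul_mem b))

theorem incl₂_comulB (b : A₀) : incl₂ ι (comulB hB b) = comul (R := k) (A := A) (ι b) := by
  unfold comulB
  have h := (AlgEquiv.ofInjective (incl₂ ι) (incl₂_injective ι hB.inj)).apply_symm_apply
    ((((comulAlgHom k A).comp ι).codRestrict (incl₂ ι).range
      (fun b => hB.comul_mem b)) b)
  have h2 := congrArg Subtype.val h
  exact h2

theorem incl₂_comp_comulB :
    (incl₂ ι).comp (comulB hB) = (comulAlgHom k A).comp ι :=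
  AlgHom.ext fun b => incl₂_comulB hB b

/-- the induced counit -/
noncomputable def counitB (ι : A₀ →ₐ[k] A) : A₀ →ₐ[k] k := (counitAlgHom k A).comp ι

/-- the induced antipode -/
noncomputable def antipodeB : A₀ →ₐ[k] A₀ :=
  ((AlgEquiv.ofInjective ι hB.inj).symm : _ →ₐ[k] _).comp
    (((HopfAlgebra.antipodeAlgHom k A).comp ι).codRestrict ι.range
      (fun b => hB.antipode_mem b))

theorem val_antipodeB (b : A₀) : ι (antipodeB hB b) = HopfAlgebra.antipode k (ι b) := by
  unfold antipodeB
  have h := (AlgEquiv.ofInjective ι hB.inj).apply_symm_apply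
    ((((HopfAlgebra.antipodeAlgHom k A).comp ι).codRestrict ι.range
      (fun b => hB.antipode_mem b)) b)
  have h2 := congrArg Subtype.val h
  exact h2

theorem incl₃_assoc (ι : A₀ →ₐ[k] A) :
    (incl₃ ι).comp (Algebra.TensorProduct.assoc k k k A₀ A₀ A₀).toAlgHom =
      (Algebra.TensorProduct.assoc k k k A A A).toAlgHom.comp
        (Algebra.TensorProduct.map (incl₂ ι) ι) := by
  ext <;> rfl

theorem incl₂_map_comulB_id :
    (Algebra.TensorProduct.map (incl₂ ι) ι).comp
      (Algebra.TensorProduct.map (comulB hB) (.id k A₀)) =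
    (Algebra.TensorProduct.map (comulAlgHom k A) (.id k A)).comp (incl₂ ι) := by
  unfold incl₂
  rw [← Algebra.TensorProduct.map_comp, ← Algebra.TensorProduct.map_comp]
  change Algebra.TensorProduct.map ((incl₂ ι).comp (comulB hB)) _ = _
  rw [incl₂_comp_comulB, AlgHom.comp_id, AlgHom.id_comp]

theorem incl₃_map_id_comulB :
    (incl₃ ι).comp (Algebra.TensorProduct.map (.id k A₀) (comulB hB)) =
    (Algebra.TensorProduct.map (.id k A) (comulAlgHom k A)).comp (incl₂ ι) := by
  unfold incl₃
  rw [← Algebra.TensorProduct.map_comp, incl₂_comp_comulB]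
  unfold incl₂
  rw [← Algebra.TensorProduct.map_comp, AlgHom.comp_id, AlgHom.id_comp]

theorem coassocB :
    (Algebra.TensorProduct.assoc k k k A₀ A₀ A₀).toAlgHom.comp
      ((Algebra.TensorProduct.map (comulB hB) (.id k A₀)).comp (comulB hB)) =
    (Algebra.TensorProduct.map (.id k A₀) (comulB hB)).comp (comulB hB) := by
  have hinj : Function.Injective (incl₃ ι) := incl₃_injective ι hB.inj
  refine AlgHom.ext fun b => hinj ?_
  have h1 : (incl₃ ι).comp ((Algebra.TensorProduct.assoc k k k A₀ A₀ A₀).toAlgHom.comp
      ((Algebra.TensorProduct.map (comulB hB) (.id k A₀)).comp (comulB hB))) =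
      (Algebra.TensorProduct.assoc k k k A A A).toAlgHom.comp
        ((Algebra.TensorProduct.map (comulAlgHom k A) (.id k A)).comp
          ((comulAlgHom k A).comp ι)) := by
    rw [← AlgHom.comp_assoc, incl₃_assoc, AlgHom.comp_assoc, ← AlgHom.comp_assoc _ _ (comulB hB),
      incl₂_map_comulB_id, AlgHom.comp_assoc, incl₂_comp_comulB]
  have h2 : (incl₃ ι).comp ((Algebra.TensorProduct.map (.id k A₀) (comulB hB)).comp (comulB hB)) =
      (Algebra.TensorProduct.map (.id k A) (comulAlgHom k A)).comp
          ((comulAlgHom k A).comp ι) := by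
    rw [← AlgHom.comp_assoc, incl₃_map_id_comulB, AlgHom.comp_assoc, incl₂_comp_comulB]
  have h3 := congrArg (fun φ => φ b) h1
  have h4 := congrArg (fun φ => φ b) h2
  simp only [AlgHom.comp_apply] at h3 h4
  simp only [AlgHom.comp_apply]
  rw [h3, h4]
  exact Coalgebra.coassoc_apply (R := k) (ι b)

theorem val_lid_map (ι : A₀ →ₐ[k] A) :
    ι.comp ((Algebra.TensorProduct.lid k A₀).toAlgHom.comp
      (Algebra.TensorProduct.map (counitB ι) (.id k A₀))) =
    ((Algebra.TensorProduct.lid k A).toAlgHom.comp
      (Algebra.TensorProduct.map (counitAlgHom k A) (.id k A))).comp (incl₂ ι) := by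
  ext x
  · simp [incl₂, counitB]
  · simp [incl₂, counitB]

theorem val_rid_map (ι : A₀ →ₐ[k] A) :
    ι.comp ((Algebra.TensorProduct.rid k k A₀).toAlgHom.comp
      (Algebra.TensorProduct.map (.id k A₀) (counitB ι))) =
    ((Algebra.TensorProduct.rid k k A).toAlgHom.comp
      (Algebra.TensorProduct.map (.id k A) (counitAlgHom k A))).comp (incl₂ ι) := by
  ext x
  · simp [incl₂, counitB]
  · simp [incl₂, counitB]

theorem rTensorB :
    (Algebra.TensorProduct.map (counitB ι) (.id k A₀)).comp (comulB hB) =
      (Algebra.TensorProduct.lid k A₀).symm := by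
  refine AlgHom.ext fun b => ?_
  apply (Algebra.TensorProduct.lid k A₀).injective
  rw [AlgEquiv.coe_algHom, AlgEquiv.apply_symm_apply]
  apply hB.inj
  have h := congrArg (fun φ => φ (comulB hB b)) (val_lid_map ι)
  simp only [AlgHom.comp_apply] at h
  refine h.trans ?_
  rw [incl₂_comulB]
  have e : (Algebra.TensorProduct.map (counitAlgHom k A) (AlgHom.id k A)) (comul (R := k) (ι b)) =
      (counit (R := k) (A := A)).rTensor A (comul (R := k) (ι b)) := rfl
  rw [e, Coalgebra.rTensor_counit_comul]
  simp

theorem lTensorB :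
    (Algebra.TensorProduct.map (.id k A₀) (counitB ι)).comp (comulB hB) =
      (Algebra.TensorProduct.rid k k A₀).symm := by
  refine AlgHom.ext fun b => ?_
  apply (Algebra.TensorProduct.rid k k A₀).injective
  rw [AlgEquiv.coe_algHom, AlgEquiv.apply_symm_apply]
  apply hB.inj
  have h := congrArg (fun φ => φ (comulB hB b)) (val_rid_map ι)
  simp only [AlgHom.comp_apply] at h
  refine h.trans ?_
  rw [incl₂_comulB]
  have e : (Algebra.TensorProduct.map (AlgHom.id k A) (counitAlgHom k A)) (comul (R := k) (ι b)) =
      (counit (R := k) (A := A)).lTensor A (comul (R := k) (ι b)) := rfl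
  rw [e, Coalgebra.lTensor_counit_comul]
  simp

/-- the induced bialgebra structure -/
@[reducible] noncomputable def bialgB : Bialgebra k A₀ :=
  Bialgebra.ofAlgHom (comulB hB) (counitB ι) (coassocB hB) (rTensorB hB) (lTensorB hB)

theorem val_lift_antipode_id :
    ι.comp (Algebra.TensorProduct.lift (antipodeB hB) (.id k A₀) fun _ _ => Commute.all _ _) =
    (Algebra.TensorProduct.lift (HopfAlgebra.antipodeAlgHom k A) (.id k A)
      fun _ _ => Commute.all _ _).comp (incl₂ ι) := by
  ext x
  · simp [incl₂, val_antipodeB]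
  · simp [incl₂]

theorem val_lift_id_antipode :
    ι.comp (Algebra.TensorProduct.lift (.id k A₀) (antipodeB hB) fun _ _ => Commute.all _ _) =
    (Algebra.TensorProduct.lift (.id k A) (HopfAlgebra.antipodeAlgHom k A)
      fun _ _ => Commute.all _ _).comp (incl₂ ι) := by
  ext x
  · simp [incl₂]
  · simp [incl₂, val_antipodeB]

theorem lift_antipode_id_comul (a : A) :
    (Algebra.TensorProduct.lift (HopfAlgebra.antipodeAlgHom k A) (.id k A)
      fun _ _ => Commute.all _ _) (comul (R := k) a) = algebraMap k A (counit (R := k) a) := by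
  rw [← HopfAlgebra.mul_antipode_rTensor_comul_apply (R := k) a]
  generalize comul (R := k) a = z
  induction z using TensorProduct.induction_on with
  | zero => simp
  | tmul x y => simp
  | add x y hx hy => rw [map_add, map_add, map_add, hx, hy]

theorem lift_id_antipode_comul (a : A) :
    (Algebra.TensorProduct.lift (.id k A) (HopfAlgebra.antipodeAlgHom k A)
      fun _ _ => Commute.all _ _) (comul (R := k) a) = algebraMap k A (counit (R := k) a) := by
  rw [← HopfAlgebra.mul_antipode_lTensor_comul_apply (R := k) a]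
  generalize comul (R := k) a = z
  induction z using TensorProduct.induction_on with
  | zero => simp
  | tmul x y => simp
  | add x y hx hy => rw [map_add, map_add, map_add, hx, hy]

/-- the induced Hopf algebra structure -/
@[reducible] noncomputable def hopfB : HopfAlgebra k A₀ :=
  letI := bialgB hB
  HopfAlgebra.ofAlgHom (antipodeB hB)
    (by
      refine AlgHom.ext fun b => hB.inj ?_
      have h := congrArg (fun φ => φ (comulB hB b)) (val_lift_antipode_id hB)
      simp only [AlgHom.comp_apply] at h
      change ι ((Algebra.TensorProduct.lift (antipodeB hB) (.id k A₀)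
        fun _ _ => Commute.all _ _) (comulB hB b)) = _
      rw [h, incl₂_comulB, lift_antipode_id_comul]
      change _ = ι (algebraMap k A₀ (counit (R := k) (ι b)))
      rw [AlgHom.commutes])
    (by
      refine AlgHom.ext fun b => hB.inj ?_
      have h := congrArg (fun φ => φ (comulB hB b)) (val_lift_id_antipode hB)
      simp only [AlgHom.comp_apply] at h
      change ι ((Algebra.TensorProduct.lift (.id k A₀) (antipodeB hB)
        fun _ _ => Commute.all _ _) (comulB hB b)) = _
      rw [h, incl₂_comulB, lift_id_antipode_comul]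
      change _ = ι (algebraMap k A₀ (counit (R := k) (ι b)))
      rw [AlgHom.commutes])

/-- `ι` as a bialgebra map for the induced structure -/
noncomputable def inclB : letI := hopfB hB; A₀ →ₐc[k] A :=
  letI := hopfB hB
  BialgHom.ofAlgHom ι (by ext b; rfl)
    (by
      refine AlgHom.ext fun b => ?_
      change incl₂ ι (comulB hB b) = comul (R := k) (ι b)
      exact incl₂_comulB hB b)

theorem inclB_apply (b : A₀) : letI := hopfB hB; inclB hB b = ι b := rfl

end structure_

/-- an algebra equivalence onto a Hopf algebra has stable image -/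
theorem isStable_of_equiv (e : A₀ ≃ₐ[k] A) : IsStable (e : A₀ →ₐ[k] A) where
  inj := e.injective
  comul_mem b := by
    refine ⟨Algebra.TensorProduct.map (e.symm : A →ₐ[k] A₀) (e.symm : A →ₐ[k] A₀)
      (comul (R := k) ((e : A₀ →ₐ[k] A) b)), ?_⟩
    generalize comul (R := k) ((e : A₀ →ₐ[k] A) b) = z
    induction z using TensorProduct.induction_on with
    | zero => simp
    | tmul x y => simp [incl₂]
    | add z₁ z₂ h₁ h₂ => rw [map_add, map_add, h₁, h₂]
  antipode_mem b := ⟨e.symm (HopfAlgebra.antipode k ((e : A₀ →ₐ[k] A) b)), by simp⟩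

end Groth.Agent.Lib.Helper24.HopfFF.Transport
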