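import Mathlib
import Groth.Agent.Lib.Helper24.HopfFF.Main
import Groth.Agent.Lib.Helper24.HopfFF.Range
import Groth.Agent.Lib.Helper24.HopfFF.Transport

/-!
# Helper24 — universe-polymorphic version of Hopf faithful flatness for finitely generated Hopf
algebras (models in the universe of the base field)
-/

set_option autoImplicit false
universe u v w

open TensorProduct Coalgebra Bialgebra

namespace Groth.Agent.Lib.Helper24.HopfFF

/-- a finitely generated Hopf algebra over `k : Type u` has a model in `Type u` -/
theorem exists_model {k : Type u} [Field k] (A : Type v) [CommRing A] [HopfAlgebra k A]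
    [Algebra.FiniteType k A] :
    ∃ (A₀ : Type u) (_ : CommRing A₀) (_ : HopfAlgebra k A₀) (_ : Algebra.FiniteType k A₀)
      (e : A₀ →ₐc[k] A), Function.Bijective e := by
  obtain ⟨n, π, hπ⟩ := Algebra.FiniteType.iff_quotient_mvPolynomial''.1
    (inferInstance : Algebra.FiniteType k A)
  let e : (MvPolynomial (Fin n) k ⧸ RingHom.ker (π : MvPolynomial (Fin n) k →+* A)) ≃ₐ[k] A :=
    Ideal.quotientKerAlgEquivOfSurjective hπ
  have hst := Transport.isStable_of_equiv e
  refine ⟨MvPolynomial (Fin n) k ⧸ RingHom.ker (π : MvPolynomial (Fin n) k →+* A), inferInstance,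
    Transport.hopfB hst, inferInstance, Transport.inclB hst, e.bijective⟩

/-- faithful flatness transfers along bijections on both sides (across universes) -/
theorem faithfullyFlat_of_conj {R₀ : Type u} {S₀ : Type u} {R : Type v} {S : Type w} [CommRing R₀]
    [CommRing S₀] [CommRing R] [CommRing S] (f₀ : R₀ →+* S₀) (f : R →+* S) (eR : R₀ →+* R)
    (eS : S₀ →+* S) (heR : Function.Bijective eR) (heS : Function.Bijective eS)
    (hcomm : f.comp eR = eS.comp f₀) (h : f₀.FaithfullyFlat) : f.FaithfullyFlat := by
  rw [RingHom.FaithfullyFlat.iff_flat_and_comap_surjective] at h ⊢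
  let ER : R₀ ≃+* R := RingEquiv.ofBijective eR heR
  have hf : f = (eS.comp f₀).comp (ER.symm : R →+* R₀) := by
    rw [← hcomm]
    refine RingHom.ext fun r => ?_
    change f r = f (ER (ER.symm r))
    rw [RingEquiv.apply_symm_apply]
  constructor
  · rw [hf]
    exact (RingHom.Flat.of_bijective ER.symm.bijective).comp
      (h.1.comp (RingHom.Flat.of_bijective heS))
  · intro x
    obtain ⟨y, hy⟩ := h.2 (PrimeSpectrum.comap eR x)
    let ES : S₀ ≃+* S := RingEquiv.ofBijective eS heS
    refine ⟨PrimeSpectrum.comap (ES.symm : S →+* S₀) y, ?_⟩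
    have h1 : PrimeSpectrum.comap eR (PrimeSpectrum.comap f
        (PrimeSpectrum.comap (ES.symm : S →+* S₀) y)) = PrimeSpectrum.comap eR x := by
      rw [← hy, ← PrimeSpectrum.comap_comp_apply, ← PrimeSpectrum.comap_comp_apply]
      congr 1
      rw [hcomm]
      refine RingHom.ext fun r => ?_
      change ES.symm (ES (f₀ r)) = f₀ r
      rw [RingEquiv.symm_apply_apply]
    have hinj : Function.Injective (PrimeSpectrum.comap eR) := by
      intro p q hpq
      have : PrimeSpectrum.comap (ER.symm : R →+* R₀) (PrimeSpectrum.comap eR p) =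
          PrimeSpectrum.comap (ER.symm : R →+* R₀) (PrimeSpectrum.comap eR q) := by rw [hpq]
      rw [← PrimeSpectrum.comap_comp_apply, ← PrimeSpectrum.comap_comp_apply] at this
      have hid : eR.comp (ER.symm : R →+* R₀) = RingHom.id R := by
        refine RingHom.ext fun r => ?_
        change ER (ER.symm r) = r
        rw [RingEquiv.apply_symm_apply]
      rw [hid, PrimeSpectrum.comap_id] at this
      exact this
    exact hinj h1

/-- **Universe-polymorphic version**, finitely generated case. -/
theorem faithfullyFlat_of_injective_of_finiteType {k : Type u} {A : Type v} {B : Type w} [Field k]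
    [CommRing A] [CommRing B] [HopfAlgebra k A] [HopfAlgebra k B] [Algebra.FiniteType k A]
    [Algebra.FiniteType k B] (f : A →ₐc[k] B) (hf : Function.Injective f) :
    (f : A →+* B).FaithfullyFlat := by
  obtain ⟨A₀, _, _, _, eA, heA⟩ := exists_model (k := k) A
  obtain ⟨B₀, _, _, _, eB, heB⟩ := exists_model (k := k) B
  let EB : B₀ ≃ₐc[k] B := BialgEquiv.ofBijective eB heB
  let f₀ : A₀ →ₐc[k] B₀ := (EB.symm : B →ₐc[k] B₀).comp (f.comp eA)
  have hf₀ : Function.Injective f₀ := EB.symm.injective.comp (hf.comp heA.1)
  have h := faithfullyFlat_of_injective f₀ hf₀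
  refine faithfullyFlat_of_conj (f₀ : A₀ →+* B₀) (f : A →+* B) (eA : A₀ →+* A) (eB : B₀ →+* B)
    heA heB ?_ h
  refine RingHom.ext fun a => ?_
  change f (eA a) = EB (EB.symm (f (eA a)))
  rw [BialgEquiv.apply_symm_apply]

end Groth.Agent.Lib.Helper24.HopfFF
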